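import Mathlib
import Cfsg.Agent.Lib.InvolutionKernel

/-!
# Centralizers: general facts (helper438)
-/

set_option autoImplicit false

namespace Cfsg.Agent.H438.Fpr.Gen

open Subgroup

universe u

section

variable {G : Type u} [Group G] [Finite G]

/-- the `p`-part from the centralizers of the elements of order `p` -/
theorem not_dvd_of_center {p k : ℕ} (hp : p.Prime)
    (h : ∀ z : G, orderOf z = p → ¬ p ^ (k + 1) ∣ Nat.card (centralizer ({z} : Set G))) : ¬ p ^ (k + 1) ∣ Nat.card G := by
  have := Fact.mk hp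
  intro hd
  obtain ⟨S, hS⟩ := Sylow.exists_subgroup_card_pow_prime p hd
  have hSp : IsPGroup p S := IsPGroup.of_card hS
  have hS1 : 1 < Nat.card S := by rw [hS]; exact Nat.one_lt_pow (Nat.succ_ne_zero k) hp.one_lt
  have : Nontrivial S := Finite.one_lt_card_iff_nontrivial.1 hS1
  have hc : Nontrivial (center S) := hSp.center_nontrivial
  have h1 : p ∣ Nat.card (center S) := by
    have h2 : IsPGroup p (center S) := hSp.to_subgroup _
    obtain ⟨n, hn⟩ := IsPGroup.iff_card.1 h2
    have h3 : 1 < Nat.card (center S) := Finite.one_lt_card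
    rw [hn] at h3 ⊢
    rcases n with _ | n
    · simp at h3
    · exact dvd_pow_self p (Nat.succ_ne_zero n)
  obtain ⟨z, hz⟩ := exists_prime_orderOf_dvd_card' p h1
  refine h ((z : S) : G) (by rw [Subgroup.orderOf_coe, Subgroup.orderOf_coe, hz]) ?_
  rw [← hS]
  refine card_dvd_of_le ?_
  intro s hs
  rw [mem_centralizer_singleton_iff]
  exact congrArg Subtype.val (mem_center_iff.1 z.2 ⟨s, hs⟩)

/-- the `p`-part from the centralizer of one element of order `p` -/
theorem not_sq_of_one {p : ℕ} (hp : p.Prime) {x : G} (hx : orderOf x = p)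
    (h : ¬ p ^ 2 ∣ Nat.card (centralizer ({x} : Set G))) : ¬ p ^ 2 ∣ Nat.card G := by
  have := Fact.mk hp
  intro hd
  have hxp : IsPGroup p (zpowers x) := IsPGroup.of_card (n := 1) (by rw [Nat.card_zpowers, hx, pow_one])
  obtain ⟨S, hS⟩ := hxp.exists_le_sylow
  have hxS : x ∈ (S : Subgroup G) := hS (mem_zpowers x)
  have hSd : p ^ 2 ∣ Nat.card (S : Subgroup G) := S.pow_dvd_card_of_pow_dvd_card hd
  have hSp : IsPGroup p (S : Subgroup G) := S.isPGroup'
  have hS1 : 1 < Nat.card (S : Subgroup G) :=
    lt_of_lt_of_le (Nat.one_lt_pow two_ne_zero hp.one_lt) (Nat.le_of_dvd Nat.card_pos hSd)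
  have : Nontrivial (S : Subgroup G) := Finite.one_lt_card_iff_nontrivial.1 hS1
  have hcn : Nontrivial (center (S : Subgroup G)) := hSp.center_nontrivial
  set s : (S : Subgroup G) := ⟨x, hxS⟩ with hs
  have hso : orderOf s = p := by rw [hs, Subgroup.orderOf_mk, hx]
  have h2 : ¬ p ^ 2 ∣ Nat.card (centralizer ({s} : Set (S : Subgroup G))) := by
    intro h3
    apply h
    refine h3.trans ?_
    have h4 : (centralizer ({s} : Set (S : Subgroup G))).map (S : Subgroup G).subtype ≤ centralizer ({x} : Set G) := by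
      rintro _ ⟨g, hg, rfl⟩
      exact mem_centralizer_singleton_iff.2 (congrArg Subtype.val (mem_centralizer_singleton_iff.1 hg))
    rw [← card_map_of_injective (S : Subgroup G).subtype_injective]
    exact card_dvd_of_le h4
  have hle : Nat.card (centralizer ({s} : Set (S : Subgroup G))) ≤ p := by
    obtain ⟨n, hn⟩ := IsPGroup.iff_card.1 (hSp.to_subgroup (centralizer ({s} : Set (S : Subgroup G))))
    rw [hn] at h2 ⊢
    have h3 : n < 2 := by
      by_contra h4
      exact h2 (pow_dvd_pow p (not_lt.1 h4))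
    calc p ^ n ≤ p ^ 1 := Nat.pow_le_pow_right hp.pos (by omega)
      _ = p := pow_one p
  have hge : p ≤ Nat.card (center (S : Subgroup G)) := by
    obtain ⟨n, hn⟩ := IsPGroup.iff_card.1 (hSp.to_subgroup (center (S : Subgroup G)))
    have h3 : 1 < Nat.card (center (S : Subgroup G)) := Finite.one_lt_card
    rw [hn] at h3 ⊢
    rcases n with _ | n
    · simp at h3
    · exact Nat.le_of_dvd (pow_pos hp.pos _) (dvd_pow_self p (Nat.succ_ne_zero n))
  have hcc : center (S : Subgroup G) ≤ centralizer ({s} : Set (S : Subgroup G)) := center_le_centralizer _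
  have heq := eq_of_le_of_card_ge hcc (hle.trans hge)
  have hsc : s ∈ center (S : Subgroup G) := by
    rw [heq]
    exact mem_centralizer_singleton_iff.2 rfl
  have htop : centralizer ({s} : Set (S : Subgroup G)) = ⊤ := by
    rw [eq_top_iff]
    intro g _
    exact mem_centralizer_singleton_iff.2 (mem_center_iff.1 hsc g)
  rw [htop, card_top] at h2
  exact h2 hSd

omit [Finite G] in
/-- centralizers and quotients -/
theorem cent_dvd_quot (N : Subgroup G) [N.Normal] (y : G) :
    Nat.card (centralizer ({y} : Set G)) ∣ Nat.card (centralizer ({(y : G ⧸ N)} : Set (G ⧸ N))) * Nat.card N := by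
  let f : centralizer ({y} : Set G) →* G ⧸ N := (QuotientGroup.mk' N).comp (centralizer ({y} : Set G)).subtype
  have h1 : Nat.card (centralizer ({y} : Set G)) = Nat.card f.ker * Nat.card f.range := by
    rw [← index_ker]
    exact f.ker.card_mul_index.symm
  rw [h1, mul_comm]
  refine Nat.mul_dvd_mul (card_dvd_of_le ?_) ?_
  · rintro _ ⟨g, rfl⟩
    rw [mem_centralizer_singleton_iff]
    change ((g : G) : G ⧸ N) * (y : G ⧸ N) = (y : G ⧸ N) * ((g : G) : G ⧸ N)
    rw [← QuotientGroup.mk_mul, ← QuotientGroup.mk_mul, mem_centralizer_singleton_iff.1 g.2]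
  · have h2 : f.ker.map (centralizer ({y} : Set G)).subtype ≤ N := by
      rintro _ ⟨g, hg, rfl⟩
      exact (QuotientGroup.eq_one_iff _).1 hg
    rw [← card_map_of_injective (centralizer ({y} : Set G)).subtype_injective]
    exact card_dvd_of_le h2

/-- `y` central of odd order `q`, `|C(t)|` divides `2 q`: all elements of odd order commute with the elements of order prime to
`2 q` -/
theorem card_dvd_of_inv {q : ℕ} {y t x : G} (hq : Odd q) (hy : orderOf y = q) (hyc : ∀ g : G, g * y = y * g)
    (ht : t * t = 1) (ht1 : t ≠ 1) (hC : Nat.card (centralizer ({t} : Set G)) ∣ 2 * q) (hxo : Odd (orderOf x))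
    (hxq : (orderOf x).Coprime q) : Nat.card G ∣ 2 * Nat.card (centralizer ({x} : Set G)) := by
  have hti : t⁻¹ = t := inv_eq_of_mul_eq_one_left ht
  obtain ⟨O, hOn, hOo, hOi, hO⟩ := Cfsg.Agent.Lib.InvolutionKernel.exists_odd_index_two ht ht1 (by
    intro h4
    have h1 := h4.trans hC
    obtain ⟨m, rfl⟩ := hq
    omega)
  have hyO : y ∈ O := (hO y).2 (by rw [hy]; exact hq)
  have hxO : x ∈ O := (hO x).2 hxo
  -- fixed points of `t` in `O`
  have hfix : ∀ g ∈ O, g * t = t * g → g ∈ zpowers y := by
    intro g hg hgt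
    set D := O ⊓ centralizer ({t} : Set G) with hD
    have h1 : Nat.card D ∣ 2 * q := (card_dvd_of_le inf_le_right).trans hC
    have h2 : Nat.Coprime (Nat.card D) 2 := by
      rw [Nat.coprime_two_right]
      exact hOo.of_dvd_nat (card_dvd_of_le inf_le_left)
    have h3 : Nat.card D ∣ q := h2.dvd_of_dvd_mul_left h1
    have h4 : zpowers y ≤ D := by
      rw [zpowers_le]
      exact ⟨hyO, mem_centralizer_singleton_iff.2 (hyc t).symm⟩
    have h5 : zpowers y = D := eq_of_le_of_card_ge h4 (by
      rw [Nat.card_zpowers, hy]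
      exact Nat.le_of_dvd (Nat.pos_of_ne_zero (by rintro rfl; exact absurd hq (by decide))) h3)
    rw [h5]
    exact ⟨hg, mem_centralizer_singleton_iff.2 hgt⟩
  -- the quotient
  have hYc : ∀ z ∈ zpowers y, ∀ g : G, g * z = z * g := by
    rintro z ⟨i, rfl⟩ g
    exact ((show Commute g y from hyc g).zpow_right i).eq
  have hYn : (zpowers y).Normal := ⟨fun z hz g => by
    rw [hYc z hz g, mul_inv_cancel_right]
    exact hz⟩
  let π := QuotientGroup.mk' (zpowers y)
  have hπ : Function.Surjective π := QuotientGroup.mk'_surjective _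
  have hπ1 : ∀ g : G, π g = 1 ↔ g ∈ zpowers y := fun g => QuotientGroup.eq_one_iff g
  set O' : Subgroup (G ⧸ zpowers y) := O.map π with hO'
  have hO'n : O'.Normal := hOn.map π hπ
  let φ : O' →* O' := (MulAut.conjNormal (π t) : MulAut O').toMonoidHom
  have hφ : ∀ a : O', ((φ a : O') : G ⧸ zpowers y) = π t * a * (π t)⁻¹ := fun a => MulAut.conjNormal_apply (π t) a
  have hinv : Function.Involutive φ := by
    intro a
    apply Subtype.ext
    rw [hφ, hφ]
    have h1 : π t * π t = 1 := by rw [← map_mul, ht, map_one]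
    calc π t * (π t * (a : G ⧸ zpowers y) * (π t)⁻¹) * (π t)⁻¹
        = (π t * π t) * a * (π t * π t)⁻¹ := by group
      _ = a := by rw [h1]; group
  have hfree : MonoidHom.FixedPointFree φ := by
    rintro ⟨_, g, hg, rfl⟩ h
    have h1 := congrArg Subtype.val h
    rw [hφ] at h1
    change π t * π g * (π t)⁻¹ = π g at h1
    have h2 : π (t * g * t⁻¹ * g⁻¹) = 1 := by rw [map_mul, map_mul, map_mul, map_inv, map_inv, h1, mul_inv_cancel]
    rw [hπ1] at h2
    set c := t * g * t⁻¹ * g⁻¹ with hc
    have h3 : t * g * t = c * g := by rw [hc, hti]; group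
    have h4 : c * c = 1 := by
      have h5 : t * (c * g) * t = g := by
        rw [← h3]
        calc t * (t * g * t) * t = (t * t) * g * (t * t) := by group
          _ = g := by rw [ht]; group
      have h6 : t * (c * g) * t = c * (t * g * t) := by
        calc t * (c * g) * t = (t * c) * g * t := by group
          _ = (c * t) * g * t := by rw [hYc c h2 t]
          _ = c * (t * g * t) := by group
      rw [h6, h3, ← mul_assoc] at h5
      exact mul_eq_right.1 h5
    have h7 : c = 1 := by
      rw [← orderOf_eq_one_iff]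
      have h8 : orderOf c ∣ 2 := orderOf_dvd_of_pow_eq_one (by rw [pow_two, h4])
      have h9 : orderOf c ∣ q := by rw [← hy]; exact orderOf_dvd_of_mem_zpowers h2
      have h10 := Nat.dvd_gcd h8 h9
      rw [(Nat.coprime_two_left.2 hq).gcd_eq_one] at h10
      exact Nat.dvd_one.1 h10
    rw [h7, one_mul] at h3
    have h8 : g * t = t * g := by
      have h9 : t * (t * g * t) = t * g := by rw [h3]
      rw [← h9]
      calc g * t = (1 : G) * g * t := by rw [one_mul]
        _ = (t * t) * g * t := by rw [ht]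
        _ = t * (t * g * t) := by group
    apply Subtype.ext
    change π g = 1
    exact (hπ1 g).2 (hfix g hg h8)
  have hcomm : ∀ g ∈ O, g * x * g⁻¹ * x⁻¹ ∈ zpowers y := by
    intro g hg
    have h1 := hfree.commute_all_of_involutive hinv ⟨π g, g, hg, rfl⟩ ⟨π x, x, hxO, rfl⟩
    have h2 : π g * π x = π x * π g := congrArg Subtype.val h1.eq
    rw [← hπ1, map_mul, map_mul, map_mul, map_inv, map_inv, h2, mul_inv_cancel_right, mul_inv_cancel]
  have hOx : O ≤ centralizer ({x} : Set G) := by
    intro g hg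
    set c := g * x * g⁻¹ * x⁻¹ with hc
    have h1 : g * x * g⁻¹ = c * x := by rw [hc]; group
    have h2 : c ^ orderOf x = 1 := by
      have h3 : (g * x * g⁻¹) ^ orderOf x = 1 := by rw [conj_pow, pow_orderOf_eq_one]; group
      have h4 : Commute c x := (hYc c (hcomm g hg) x).symm
      rw [h1, h4.mul_pow, pow_orderOf_eq_one, mul_one] at h3
      exact h3
    have h7 : c = 1 := by
      rw [← orderOf_eq_one_iff]
      have h8 : orderOf c ∣ orderOf x := orderOf_dvd_of_pow_eq_one h2
      have h9 : orderOf c ∣ q := by rw [← hy]; exact orderOf_dvd_of_mem_zpowers (hcomm g hg)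
      have h10 := Nat.dvd_gcd h8 h9
      rw [hxq.gcd_eq_one] at h10
      exact Nat.dvd_one.1 h10
    rw [h7, one_mul] at h1
    rw [mem_centralizer_singleton_iff]
    calc g * x = (g * x * g⁻¹) * g := by group
      _ = x * g := by rw [h1]
  have h1 := O.card_mul_index
  rw [hOi] at h1
  rw [← h1, mul_comm]
  exact Nat.mul_dvd_mul_left 2 (card_dvd_of_le hOx)

end

end Cfsg.Agent.H438.Fpr.Gen
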