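import Cfsg.Agent.H438.Fpr.LyB
import Cfsg.Agent.H438.Fpr.Gen
import Cfsg.Agent.H513.NilpLy
import Cfsg.Agent.H904.McLCent

/-!
# The Lyons group: `|C(x)| = 66`, `|N(⟨x⟩)| = 330` for `x` of order 11, `|C(x)| = 168`, `|N(⟨x⟩)| = 1008` for `x` of order 7
(helper438)
-/

set_option autoImplicit false
set_option maxRecDepth 100000

namespace Cfsg.Agent.H438.Fpr.Ly

open Subgroup Equiv Cfsg.Agent.H409 Cfsg.Agent.OrdDiv Cfsg.Agent.H940.Eng Cfsg.Agent.H940.Eng.D Cfsg.Agent.H715.Fpr
  Cfsg.Agent.H493.Sep.LyLoc Cfsg.Agent.H438.Fpr.Gen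
open Cfsg.Agent.TypeM.Two Cfsg.Agent.CpAutLy.Types Cfsg.Agent.CpAutLy.Base Cfsg.Agent.CpAutLy.McLThree
open Cfsg.Agent.SporRec.TwoAn Cfsg.Agent.CpAutLy.Cov Cfsg.Agent.TypeM.McLFromLy

/-! ### permutations of prime order `≥ 6` of eleven letters -/

theorem type_of_order {p : ℕ} (hp : p.Prime) (h6 : 6 ≤ p) {σ : Perm (Fin 11)} (h : orderOf σ = p) : σ.cycleType = {p} := by
  have := Fact.mk hp
  have hct := Perm.cycleType_of_pow_prime_eq_one (σ := σ) (p := p) (by rw [← h, pow_orderOf_eq_one])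
  have h2 : σ.cycleType.sum ≤ 11 := by
    rw [σ.sum_cycleType]
    exact (Finset.card_le_univ _).trans (by simp)
  rw [hct, Multiset.sum_replicate, smul_eq_mul] at h2
  have h3 : σ.cycleType.card ≠ 0 := by
    intro h4
    rw [Multiset.card_eq_zero, Perm.cycleType_eq_zero] at h4
    rw [h4, orderOf_one] at h
    exact hp.one_lt.ne h
  have h4 : σ.cycleType.card = 1 := by
    have h5 : ¬ 2 ≤ σ.cycleType.card := by
      intro h5
      have h6' : 2 * 6 ≤ σ.cycleType.card * p := Nat.mul_le_mul h5 h6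
      omega
    omega
  rw [hct, h4]
  rfl

theorem pi_order (L : MT 11 G) {p : ℕ} (hp : p.Prime) (hp2 : p ≠ 2) {y : centralizer ({L.t} : Set G)}
    (hy : orderOf y = p) : orderOf (L.K.π y) = p := by
  have := Fact.mk hp
  refine orderOf_eq_prime (by rw [← map_pow, ← hy, pow_orderOf_eq_one, map_one]) ?_
  exact π_ne_one L.K (n := p) (hp.odd_of_ne_two hp2) (by rw [← hy, pow_orderOf_eq_one]) (by
    rintro rfl
    rw [orderOf_one] at hy
    exact hp.one_lt.ne hy)

/-- an involution commuting with an element of order 11 -/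
theorem nn_eleven {x s : G} (hx : orderOf x = 11) (hs : orderOf s = 2) (hsx : s * x = x * s) : nn x s ∣ 22 := by
  obtain ⟨L⟩ := exists_mt
  obtain ⟨h1, h2⟩ := MT.sq_of_orderOf hs
  obtain ⟨L', rfl⟩ := L.exists_rebase h1 h2
  have hy : orderOf (xc hsx) = 11 := (Subgroup.orderOf_mk x _).trans hx
  have h3 := pi_order L' (by norm_num) (by norm_num) hy
  have h4 := type_of_order (by norm_num) (by norm_num) h3
  rw [← nn_eq hsx, ← card_split L'.K]
  have h5 : Nat.card (centralizer ({L'.K.π (xc hsx)} : Set (Perm (Fin 11)))) = 11 := by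
    rw [Equiv.Perm.nat_card_centralizer, h4]
    decide
  have h6 := card_dvd_of_le ((map_le L'.K (xc hsx)).trans inf_le_left)
  rw [h5] at h6
  exact Nat.mul_dvd_mul_right h6 2

/-- an involution commuting with an element of order 7 -/
theorem nn_seven {x s : G} (hx : orderOf x = 7) (hs : orderOf s = 2) (hsx : s * x = x * s) : nn x s = 168 := by
  obtain ⟨L⟩ := exists_mt
  obtain ⟨h1, h2⟩ := MT.sq_of_orderOf hs
  obtain ⟨L', rfl⟩ := L.exists_rebase h1 h2
  have hy : orderOf (xc hsx) = 7 := (Subgroup.orderOf_mk x _).trans hx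
  have h3 := pi_order L' (by norm_num) (by norm_num) hy
  have h4 := type_of_order (by norm_num) (by norm_num) h3
  rw [← nn_eq hsx, card_eq L'.K (n := 7) (by decide) (by rw [← hy, pow_orderOf_eq_one]) ?_]
  · rw [Equiv.Perm.nat_card_centralizer, h4]
    decide
  · apply hasOdd_of_support
    rw [← (L'.K.π (xc hsx)).sum_cycleType, h4]
    decide

theorem nn_comm (x y : G) : nn x y = nn y x := by
  unfold nn
  rw [inf_comm]

/-! ### subgroups of prime order -/

theorem cent_of_order {r : ℕ} (hr : r.Prime) (h2 : ¬ r ^ 2 ∣ Nat.card G) {x y : G} (hx : orderOf x = r) (hy : orderOf y = r) :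
    Nat.card (centralizer ({x} : Set G)) = Nat.card (centralizer ({y} : Set G)) := by
  have := Fact.mk hr
  rw [← cent_zpowers' x, ← cent_zpowers' y]
  exact H904.SylOne.card_centralizer_eq (by rw [Nat.card_zpowers, hx]) (by rw [Nat.card_zpowers, hy]) h2

/-- an involution commuting with an element of order `r ∈ {7, 11}` -/
theorem exists_inv {r : ℕ} (hr : r.Prime) (hr2 : r ≠ 2) (h2 : ¬ r ^ 2 ∣ Nat.card G) {σ : Perm (Fin 11)}
    (hσ : σ ∈ alternatingGroup (Fin 11)) (ho : orderOf σ = r) {x : G} (hx : orderOf x = r) :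
    ∃ s : G, orderOf s = 2 ∧ s * x = x * s := by
  have := Fact.mk Nat.prime_two
  obtain ⟨L⟩ := exists_mt
  obtain ⟨y, -, hy⟩ := exists_lift_order L hr hr2 hσ ho
  have hy' : orderOf (y : G) = r := by rw [Subgroup.orderOf_coe, hy]
  have h3 : 2 ∣ Nat.card (centralizer ({(y : G)} : Set G)) := by
    have h4 : orderOf L.t = 2 := orderOf_eq_prime (by rw [pow_two]; exact L.t_mul_t) L.t_ne
    rw [← h4]
    exact Subgroup.orderOf_dvd_natCard _ (mem_centralizer_singleton_iff.2 (mem_centralizer_singleton_iff.1 y.2).symm)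
  rw [cent_of_order hr h2 hy' hx] at h3
  obtain ⟨s, hs⟩ := exists_prime_orderOf_dvd_card' 2 h3
  exact ⟨s, by rw [Subgroup.orderOf_coe, hs], mem_centralizer_singleton_iff.1 s.2⟩

/-! ### the element of order 3 -/

/-- `C(x₀)` -/
theorem nn_three {x₀ : G} (h₀ : Three x₀) {r : ℕ} (hr : r.Prime) (hr3 : r ≠ 3) {k : ℕ}
    (hk : ∀ P : Subgroup (↥(centralizer ({x₀} : Set G)) ⧸ center ↥(centralizer ({x₀} : Set G))), Nat.card P = r →
      Nat.card (centralizer (P : Set (↥(centralizer ({x₀} : Set G)) ⧸ center ↥(centralizer ({x₀} : Set G))))) ∣ k)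
    {y : G} (hy : orderOf y = r) (hyx : y * x₀ = x₀ * y) : nn y x₀ ∣ 3 * k := by
  have := fin
  have := Fact.mk hr
  set y' : centralizer ({x₀} : Set G) := ⟨y, mem_centralizer_singleton_iff.2 hyx⟩ with hy'
  have hyo : orderOf y' = r := by rw [hy', Subgroup.orderOf_mk, hy]
  have hyc : y' ∉ center ↥(centralizer ({x₀} : Set G)) := by
    intro h
    have h1 := Subgroup.orderOf_dvd_natCard _ h
    rw [hyo, h₀.zcard] at h1
    exact hr3 ((Nat.prime_dvd_prime_iff_eq hr Nat.prime_three).1 h1)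
  have h1 := Cfsg.Agent.CpAutLy.Row.orderOf_mk hr hyo hyc
  have h2 := cent_dvd_quot (center ↥(centralizer ({x₀} : Set G))) y'
  rw [h₀.zcard] at h2
  have h3 := hk (zpowers (QuotientGroup.mk y')) (by rw [Nat.card_zpowers, h1])
  rw [cent_zpowers'] at h3
  rw [nn_comm, ← nn_eq' y', mul_comm 3]
  exact h2.trans (Nat.mul_dvd_mul_right h3 3)

theorem exists_of_three {x₀ : G} (h₀ : Three x₀) {r : ℕ} (hr : r.Prime) (hd : r ∣ 2694384000) :
    ∃ y : G, orderOf y = r ∧ y * x₀ = x₀ * y := by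
  have := fin
  have := Fact.mk hr
  obtain ⟨y, hy⟩ := exists_prime_orderOf_dvd_card' (G := centralizer ({x₀} : Set G)) r
    (by rw [Cfsg.Agent.H124.Cop.SCLy.card_three h₀]; exact hd)
  exact ⟨y, by rw [Subgroup.orderOf_coe, hy], mem_centralizer_singleton_iff.1 y.2⟩

/-! ### the prime 11 -/

theorem cent11 {x : G} (hx : orderOf x = 11) : Nat.card (centralizer ({x} : Set G)) ∣ 66 := by
  have := fin
  obtain ⟨x₀, h₀⟩ := exists_three
  obtain ⟨y, hy, hyx⟩ := exists_of_three h₀ (r := 11) (by norm_num) (by norm_num)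
  rw [cent_of_order (by norm_num) (not_sq (r := 11) (by decide +kernel)) hx hy]
  have h1 : nn y x₀ ∣ 3 * 11 := nn_three h₀ (by norm_num) (by norm_num) (fun P hP => by
    rw [(H904.McLCent.eleven h₀.quot P hP).1]) hy hyx
  obtain ⟨s, hs, hsy⟩ := exists_inv (r := 11) (by norm_num) (by norm_num) (not_sq (r := 11) (by decide +kernel)) mem11.1 o11.1 hy
  obtain ⟨h3, h4⟩ := MT.sq_of_orderOf hs
  have h2 := card_dvd_of_inv (G := centralizer ({y} : Set G)) (q := 11) (y := ⟨y, mem_centralizer_singleton_iff.2 rfl⟩)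
    (t := ⟨s, mem_centralizer_singleton_iff.2 hsy⟩) (x := ⟨x₀, mem_centralizer_singleton_iff.2 hyx.symm⟩) (by decide)
    (by rw [Subgroup.orderOf_mk, hy]) (fun g => Subtype.ext (mem_centralizer_singleton_iff.1 g.2)) (Subtype.ext h3)
    (fun h => h4 (congrArg Subtype.val h)) ?_ (by rw [Subgroup.orderOf_mk, h₀.ord]; decide)
    (by rw [Subgroup.orderOf_mk, h₀.ord]; norm_num)
  · rw [nn_eq'] at h2
    exact h2.trans (Nat.mul_dvd_mul_left 2 h1)
  · rw [nn_eq']
    exact nn_eleven hy hs hsy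

theorem cn11 {R : Subgroup G} (hR : Nat.card R = 11) : Nat.card (centralizer (R : Set G)) ∣ 66 ∧
    Nat.card (normalizer (R : Set G)) = 330 := by
  have := fin
  have := simple
  have h0 : Nat.card (centralizer (R : Set G)) ∣ 66 := by
    obtain ⟨w, hw, rfl⟩ := eq_zpowers' (by norm_num) hR
    rw [cent_zpowers']
    exact cent11 hw
  have h1 := cnP_sound na card (r := 11) (fC := [(2, 1), (3, 1), (11, 1)]) (by decide +kernel) (by decide +kernel)
    (by decide +kernel) hR (h0.trans (by decide +kernel)) (P := fun c m => m == 330) (by decide +kernel) hR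
  exact ⟨h0, by simpa using h1⟩

/-! ### the prime 7 -/

theorem no_comm {r q k : ℕ} (hr : r.Prime) (hq : q.Prime) (h : ∀ {R : Subgroup G}, Nat.card R = r →
    Nat.card (centralizer (R : Set G)) ∣ k) (hqk : ¬ q ∣ k) {x : G} (hx : orderOf x = q) :
    ¬ r ∣ Nat.card (centralizer ({x} : Set G)) := by
  have := fin
  have := Fact.mk hr
  have := Fact.mk hq
  intro hd
  obtain ⟨y, hy⟩ := exists_prime_orderOf_dvd_card' (G := centralizer ({x} : Set G)) r hd
  have hy' : orderOf (y : G) = r := by rw [Subgroup.orderOf_coe, hy]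
  have h1 := h (R := zpowers (y : G)) (by rw [Nat.card_zpowers, hy'])
  rw [cent_zpowers'] at h1
  apply hqk
  refine dvd_trans ?_ h1
  rw [← hx]
  exact Subgroup.orderOf_dvd_natCard _ (mem_centralizer_singleton_iff.2 (mem_centralizer_singleton_iff.1 y.2).symm)

theorem not_five_pow {x : G} (hx : orderOf x = 7) : ¬ 5 ^ 4 ∣ Nat.card (centralizer ({x} : Set G)) := by
  have := fin
  have := Fact.mk Nat.prime_five
  intro hd
  obtain ⟨M⟩ := exists_mt
  let L : Cfsg.Agent.SporRec.LyType.LyType G := { t := M.t, K := M.K, hz := M.hz, one := M.one }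
  obtain ⟨f, hf, hbig⟩ := Cfsg.Agent.H513.NilpLy.exists_f L (by rw [card]; decide +kernel)
  obtain ⟨B, hB⟩ := Sylow.exists_subgroup_card_pow_prime 5 hd
  have hB' : Nat.card (B.map (centralizer ({x} : Set G)).subtype) = 5 ^ 4 := by
    rw [card_map_of_injective (centralizer ({x} : Set G)).subtype_injective, hB]
  obtain ⟨g, hg⟩ := hbig _ (IsPGroup.of_card hB') (by rw [hB'])
  obtain ⟨z, hz, hzg⟩ := hg
  have h1 : (z : G) * x = x * z := mem_centralizer_singleton_iff.1 z.2
  have hzg' : (z : G) = g * f * g⁻¹ := hzg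
  rw [hzg'] at h1
  have h2 : 7 ∣ Nat.card (centralizer ({f} : Set G)) := by
    have h3 : orderOf (g⁻¹ * x * g) = 7 := by
      have h3 : g⁻¹ * x * g = MulAut.conj g⁻¹ x := by simp
      rw [h3, MulEquiv.orderOf_eq, hx]
    rw [← h3]
    refine Subgroup.orderOf_dvd_natCard _ (mem_centralizer_singleton_iff.2 ?_)
    calc g⁻¹ * x * g * f = g⁻¹ * (x * (g * f * g⁻¹)) * g := by group
      _ = g⁻¹ * ((g * f * g⁻¹) * x) * g := by rw [h1]
      _ = f * (g⁻¹ * x * g) := by group
  rw [hf] at h2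
  norm_num at h2

theorem dvd_of_not_pow {p a k b m : ℕ} (hp : p.Prime) (hm0 : m ≠ 0) (h : m ∣ p ^ a * b) (hk : ¬ p ^ (k + 1) ∣ m) :
    m ∣ p ^ k * b := by
  obtain ⟨j, m', hm', rfl⟩ := Nat.exists_eq_pow_mul_and_not_dvd hm0 p hp.ne_one
  have h1 : j ≤ k := by
    by_contra h2
    exact hk ((pow_dvd_pow p (by omega)).trans (dvd_mul_right _ _))
  have h2 : m' ∣ b := by
    have h3 : Nat.Coprime m' (p ^ a) := Nat.Coprime.pow_right a ((Nat.Prime.coprime_iff_not_dvd hp).2 hm').symm
    exact h3.dvd_of_dvd_mul_left ((dvd_mul_left _ _).trans h)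
  exact Nat.mul_dvd_mul (pow_dvd_pow p h1) h2

theorem cent7 (B : Base) {x : G} (hx : orderOf x = 7) : 24 ∣ Nat.card (centralizer ({x} : Set G)) ∧
    Nat.card (centralizer ({x} : Set G)) ∣ prodl [(2, 3), (3, 1), (5, 3), (7, 1)] := by
  have := fin
  obtain ⟨x₀, h₀⟩ := exists_three
  obtain ⟨y, hy, hyx⟩ := exists_of_three h₀ (r := 7) (by norm_num) (by norm_num)
  rw [cent_of_order (by norm_num) (not_sq (r := 7) (by decide +kernel)) hx hy]
  clear hx
  have h1 : nn y x₀ ∣ 3 * 14 := nn_three h₀ (by norm_num) (by norm_num) (fun P hP =>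
    (H904.McLCent.seven h₀.quot P hP).1) hy hyx
  obtain ⟨s, hs, hsy⟩ := exists_inv (r := 7) (by norm_num) (by norm_num) (not_sq (r := 7) (by decide +kernel)) mem7.1 o7.1 hy
  set c := Nat.card (centralizer ({y} : Set G)) with hc
  constructor
  · have h2 : nn y s ∣ c := card_dvd_of_le inf_le_left
    rw [nn_seven hy hs hsy] at h2
    exact (by norm_num : 24 ∣ 168).trans h2
  have hcG : c ∣ n_ly := by rw [← card]; exact card_subgroup_dvd_card _
  -- the parts
  have e2 : ¬ 2 ^ 4 ∣ c := by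
    refine not_dvd_of_center Nat.prime_two fun z hz => ?_
    rw [nn_eq']
    have hz' : orderOf (z : G) = 2 := by rw [Subgroup.orderOf_coe, hz]
    rw [nn_seven hy hz' (mem_centralizer_singleton_iff.1 z.2)]
    norm_num
  have e3 : ¬ 3 ^ 2 ∣ c := by
    refine not_sq_of_one (x := ⟨x₀, mem_centralizer_singleton_iff.2 hyx.symm⟩) Nat.prime_three
      (by rw [Subgroup.orderOf_mk, h₀.ord]) ?_
    rw [nn_eq']
    intro h2
    exact absurd (h2.trans h1) (by norm_num)
  have e5 : ¬ 5 ^ 4 ∣ c := not_five_pow hy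
  have e11 : ¬ 11 ∣ c := no_comm (k := 66) (by norm_num) (by norm_num) (fun hR => (cn11 hR).1) (by norm_num) hy
  have e31 : ¬ 31 ∣ c := no_comm (k := 31) (by norm_num) (by norm_num) (fun hR => (cn31 hR).1.dvd) (by norm_num) hy
  have e37 : ¬ 37 ∣ c := no_comm (k := 333) (by norm_num) (by norm_num) (fun hR => ((loc37 B).2.2.2 _ hR).1) (by norm_num) hy
  have e67 : ¬ 67 ∣ c := no_comm (k := 67) (by norm_num) (by norm_num) (fun hR => (cn67 B hR).1.dvd) (by norm_num) hy
  have hc0 : c ≠ 0 := Nat.card_pos.ne'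
  have e1 := dvd_filter (m := c) v_ly hcG [11, 31, 37, 67] (by
    intro p hp
    simp only [List.mem_cons, List.not_mem_nil, or_false] at hp
    rcases hp with rfl | rfl | rfl | rfl
    · exact e11
    · exact e31
    · exact e37
    · exact e67)
  have f1 : c ∣ 2 ^ 8 * (3 ^ 7 * 5 ^ 6 * 7) := e1.trans (by decide +kernel)
  have f2 := dvd_of_not_pow (k := 3) Nat.prime_two hc0 f1 e2
  have f3 : c ∣ 3 ^ 7 * (2 ^ 3 * 5 ^ 6 * 7) := f2.trans (by decide +kernel)
  have f4 := dvd_of_not_pow (k := 1) Nat.prime_three hc0 f3 e3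
  have f5 : c ∣ 5 ^ 6 * (2 ^ 3 * 3 ^ 1 * 7) := f4.trans (by decide +kernel)
  have f6 := dvd_of_not_pow (k := 3) Nat.prime_five hc0 f5 e5
  exact f6.trans (by decide +kernel)

theorem cn7 (B : Base) {R : Subgroup G} (hR : Nat.card R = 7) : Nat.card (centralizer (R : Set G)) = 168 ∧
    Nat.card (normalizer (R : Set G)) = 1008 := by
  have := fin
  have := simple
  obtain ⟨h0, h1⟩ : 24 ∣ Nat.card (centralizer (R : Set G)) ∧
      Nat.card (centralizer (R : Set G)) ∣ prodl [(2, 3), (3, 1), (5, 3), (7, 1)] := by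
    obtain ⟨w, hw, rfl⟩ := eq_zpowers' (by norm_num) hR
    rw [cent_zpowers']
    exact cent7 B hw
  have h2 := cnP_sound na card (r := 7) (fC := [(2, 3), (3, 1), (5, 3), (7, 1)]) (by decide +kernel) (by decide +kernel)
    (by decide +kernel) hR h1 (P := fun c m => c % 24 != 0 || (c == 168 && m == 1008)) (by decide +kernel) hR
  rw [Nat.mod_eq_zero_of_dvd h0] at h2
  simpa using h2

/-! ### the rows -/

theorem row5 (B : Base) : FprRow 6 1 5 G := by
  have := fin
  have ha : Acts 5 11 G := by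
    obtain ⟨R, hR⟩ := exists_card_eq (G := G) (r := 11) (by decide +kernel) (by rw [card]; decide +kernel)
    obtain ⟨h1, h2⟩ := cn11 hR
    exact acts_of_card (by norm_num) (by norm_num) hR 1 (by rw [h2]; norm_num) (fun h3 => absurd (h3.trans h1) (by norm_num))
  exact row_of_act2 (ctx B) (q := 11) (N := 330) (by decide +kernel) (by decide +kernel) (by decide +kernel) ha
    (fun _ hR => (cn11 hR).2.le) 360 0 lb_zero 0 (by decide +kernel)

theorem row7 (B : Base) : FprRow 8 1 7 G :=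
  row_of_norm2 (ctx B) (by decide +kernel) (fun _ hR => (cn7 B hR).2.le) 1152 0 lb_zero 0 (by decide +kernel)

/-- **the rows of `Ly`** -/
theorem row (B : Base) {p : ℕ} (hp : p.Prime) (hd : p ∣ Nat.card G) : FprRow (p + 1) 1 p G := by
  have h1 := valid_mem v_ly hp (by rw [← card]; exact hd)
  simp only [l_ly, List.map_cons, List.map_nil, List.mem_cons, List.not_mem_nil, or_false] at h1
  rcases h1 with rfl | rfl | rfl | rfl | rfl | rfl | rfl | rfl
  · exact row2 B
  · exact row3 B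
  · exact row5 B
  · exact row7 B
  · exact row11 B
  · exact row31 B
  · exact row37 B
  · exact row67 B

universe u in
theorem rowIso (B : Base) {S : Type u} [Group S] (h : Cfsg.Spor.IsoLy S) {p : ℕ} (hp : p.Prime)
    (hd : p ∣ Nat.card S) : FprRow (p + 1) 1 p S := by
  obtain ⟨e⟩ := h
  exact (row B hp (by rw [← Nat.card_congr e.toEquiv]; exact hd)).of_mulEquiv hp e.symm

end Cfsg.Agent.H438.Fpr.Ly
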