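import Cfsg.Agent.H291.SolIdx
import Cfsg.Agent.H568.TriPair
import Cfsg.Agent.H995.CopEngine

/-!
# Primes not dividing the order of the centralizer of an element of order `p` (helper438)

`kill` : `p² ∤ |G|`, `q ∤ p - 1`, `p ∤ q^i - 1` for `q^i ∣ |G|`, the centralizers `X` of the elements of order `q` commuting
with `x` have a normal `p'`-subgroup `K` with `P K` normal in `X`, and `p ∤ |C(w)|` for some `w` of order `q`: then
`q ∤ |C(x)|`.
-/

set_option autoImplicit false

namespace Cfsg.Agent.H438.Fpr.LemB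

open Subgroup Cfsg.Agent.H995.CopEngine Cfsg.Agent.H291.SolNorm
open scoped Pointwise

universe u

/-- a normal `p'`-subgroup `K` with `P K` normal -/
def Nice (p : ℕ) (X : Type u) [Group X] : Prop :=
  ∃ (K : Subgroup X) (_ : K.Normal), ¬ p ∣ Nat.card K ∧ ∀ P : Sylow p X, ((P : Subgroup X) ⊔ K).Normal

variable {G : Type u} [Group G] [Finite G]

/-- the Frattini argument, in `X` -/
theorem part_in {X : Type u} [Group X] [Finite X] {p : ℕ} (hp : p.Prime) (h2 : ¬ p ^ 2 ∣ Nat.card X) {x : X}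
    (hx : orderOf x = p) (hN : Nice p X) {q k : ℕ} (hq : q.Prime) (hqp : q ≠ p) (hq1 : ¬ q ∣ p - 1)
    (hc : ∀ i, 1 ≤ i → q ^ i ∣ Nat.card X → ¬ p ∣ q ^ i - 1) (hk : q ^ k ∣ Nat.card X) :
    q ^ k ∣ Nat.card (centralizer ({x} : Set X)) := by
  have hpf := Fact.mk hp
  obtain ⟨K, hK, hpK, hPK⟩ := hN
  have hidx : ¬ p ∣ (zpowers x).index := by
    intro h1
    apply h2
    rw [← (zpowers x).card_mul_index, Nat.card_zpowers, hx, pow_two]
    exact Nat.mul_dvd_mul_left p h1
  have hpg : IsPGroup p (zpowers x) := IsPGroup.of_card (n := 1) (by rw [Nat.card_zpowers, hx, pow_one])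
  let P : Sylow p X := hpg.toSylow hidx
  have hPx : (P : Subgroup X) = zpowers x := rfl
  have hT := hPK P
  set T : Subgroup X := (P : Subgroup X) ⊔ K with hTdef
  have hPT : (P : Subgroup X) ≤ T := le_sup_left
  set N : Subgroup X := normalizer ((P : Subgroup X) : Set X) with hNdef
  -- Frattini
  have hF : N ⊔ K = ⊤ := by
    have h3 := Sylow.normalizer_sup_eq_top (P.subtype hPT)
    have h4 : ((P.subtype hPT : Sylow p T) : Subgroup T).map T.subtype = (P : Subgroup X) := by
      rw [Sylow.coe_subtype, subgroupOf_map_subtype, inf_eq_left.2 hPT]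
    rw [h4] at h3
    rw [eq_top_iff, ← h3]
    refine sup_le le_sup_left ?_
    rw [hTdef]
    exact sup_le (le_trans le_normalizer le_sup_left) le_sup_right
  -- the orders
  have e1 : K.index = K.relIndex N := by
    rw [← relIndex_top_right, ← hF, sup_comm, relIndex_sup_left]
  have e2 : Nat.card X * Nat.card ↥(K ⊓ N) = Nat.card K * Nat.card N := by
    have h5 : Nat.card ↥(K ⊓ N) * K.relIndex N = Nat.card N := by
      have h6 := (K.subgroupOf N).card_mul_index
      rw [← Subgroup.relIndex] at h6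
      rw [← h6]
      congr 1
      rw [← card_map_of_injective N.subtype_injective, subgroupOf_map_subtype]
    rw [← K.card_mul_index, e1, ← h5]
    ring
  -- `K ∩ N` centralizes `x`
  have e3 : K ⊓ centralizer ({x} : Set X) ≤ K ⊓ N := by
    refine inf_le_inf_left _ fun g hg => ?_
    have h3 : centralizer ((zpowers x : Subgroup X) : Set X) ≤ N := by
      rw [hNdef, hPx]
      exact centralizer_le_normalizer _
    refine h3 ?_
    rw [mem_centralizer_iff]
    rintro _ ⟨j, rfl⟩
    exact ((show Commute g x from mem_centralizer_singleton_iff.1 hg).zpow_right j).eq.symm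
  have hx1 : x ^ p = 1 := by rw [← hx, pow_orderOf_eq_one]
  -- the `q`-parts
  have hqf := Fact.mk hq
  have v1 : ∀ j, q ^ j ∣ Nat.card K → q ^ j ∣ Nat.card ↥(K ⊓ N) := fun j hj => by
    have h7 := pow_dvd_cent hp K hpK hx1 hq hqp hj (fun i hi h => hc i hi (h.trans (card_subgroup_dvd_card K)))
    exact h7.trans (card_dvd_of_le e3)
  have c0 : ∀ H : Subgroup X, Nat.card H ≠ 0 := fun H => Nat.card_pos.ne'
  have hX0 : Nat.card X ≠ 0 := Nat.card_pos.ne'
  have v2 : q ^ k ∣ Nat.card N := by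
    rw [hq.pow_dvd_iff_le_factorization (c0 _)]
    have h8 := congrArg (fun n => n.factorization q) e2
    simp only [Nat.factorization_mul hX0 (c0 _), Nat.factorization_mul (c0 K) (c0 N), Finsupp.add_apply] at h8
    have h9 := (hq.pow_dvd_iff_le_factorization hX0).1 hk
    have h10 := (hq.pow_dvd_iff_le_factorization (c0 (K ⊓ N))).1 (v1 _ (Nat.ordProj_dvd (Nat.card K) q))
    omega
  -- the centralizer
  have h11 := relIndex_centralizer_dvd hp (zpowers x) (by rw [Nat.card_zpowers, hx])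
  have hle : centralizer (zpowers x : Set X) ≤ normalizer (zpowers x : Set X) := centralizer_le_normalizer _
  have h12 := Subgroup.relIndex_mul_relIndex ⊥ (centralizer (zpowers x : Set X)) (normalizer (zpowers x : Set X)) bot_le hle
  rw [relIndex_bot_left, relIndex_bot_left] at h12
  have h13 : Nat.Coprime (q ^ k) ((centralizer (zpowers x : Set X)).relIndex (normalizer (zpowers x : Set X))) := by
    refine Nat.Coprime.pow_left k ((Nat.Prime.coprime_iff_not_dvd hq).2 fun h => hq1 (h.trans h11))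
  have h14 : q ^ k ∣ Nat.card (centralizer (zpowers x : Set X)) := by
    refine h13.dvd_of_dvd_mul_right ?_
    rw [h12]
    exact v2
  refine h14.trans (card_dvd_of_le fun g hg => ?_)
  rw [mem_centralizer_singleton_iff]
  exact (mem_centralizer_iff.1 hg x (mem_zpowers x)).symm

theorem part_eq {p : ℕ} (hp : p.Prime) (h2 : ¬ p ^ 2 ∣ Nat.card G) {X : Subgroup G} {x : G} (hxX : x ∈ X)
    (hx : orderOf x = p) (hN : Nice p X) {q k : ℕ} (hq : q.Prime) (hqp : q ≠ p) (hq1 : ¬ q ∣ p - 1)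
    (hc : ∀ i, 1 ≤ i → q ^ i ∣ Nat.card G → ¬ p ∣ q ^ i - 1) (hk : q ^ k ∣ Nat.card X) :
    q ^ k ∣ Nat.card ↥(X ⊓ centralizer ({x} : Set G)) := by
  have hXG : Nat.card X ∣ Nat.card G := card_subgroup_dvd_card X
  have h1 := part_in hp (fun h => h2 (h.trans hXG)) (x := (⟨x, hxX⟩ : X)) (by rw [Subgroup.orderOf_mk, hx]) hN hq hqp hq1
    (fun i hi h => hc i hi (h.trans hXG)) hk
  refine h1.trans ?_
  rw [← card_map_of_injective X.subtype_injective]
  refine card_dvd_of_le ?_
  rintro _ ⟨c, hc', rfl⟩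
  exact ⟨c.2, mem_centralizer_singleton_iff.2 (congrArg Subtype.val (mem_centralizer_singleton_iff.1 hc'))⟩

/-- **A Sylow `q`-subgroup in `C(x)`.** -/
theorem not_dvd_index {p : ℕ} (hp : p.Prime) (h2 : ¬ p ^ 2 ∣ Nat.card G) {x : G}
    (hx : orderOf x = p) {q : ℕ} (hq : q.Prime) (hqp : q ≠ p) (hq1 : ¬ q ∣ p - 1)
    (hc : ∀ i, 1 ≤ i → q ^ i ∣ Nat.card G → ¬ p ∣ q ^ i - 1)
    (hN : ∀ y : G, orderOf y = q → x * y = y * x → Nice p ↥(centralizer ({y} : Set G)))
    (hqx : q ∣ Nat.card (centralizer ({x} : Set G))) : ¬ q ∣ (centralizer ({x} : Set G)).index := by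
  have hqf := Fact.mk hq
  obtain ⟨y, hy⟩ := exists_prime_orderOf_dvd_card' q hqx
  have hyo : orderOf (y : G) = q := by rw [Subgroup.orderOf_coe, hy]
  have hyx : (y : G) * x = x * y := mem_centralizer_singleton_iff.1 y.2
  have hG0 : Nat.card G ≠ 0 := Nat.card_pos.ne'
  -- the Sylow subgroup of `C(y) ∩ C(x)`
  set C := centralizer ({(y : G)} : Set G) with hC
  set D : Subgroup G := C ⊓ centralizer ({x} : Set G) with hD
  have hxC : x ∈ C := mem_centralizer_singleton_iff.2 hyx.symm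
  have hyD : (y : G) ∈ D := ⟨mem_centralizer_singleton_iff.2 rfl, y.2⟩
  have hyp : IsPGroup q (zpowers (⟨y, hyD⟩ : D)) :=
    IsPGroup.of_card (n := 1) (by rw [Nat.card_zpowers, Subgroup.orderOf_mk, hyo, pow_one])
  obtain ⟨QD, hQD⟩ := hyp.exists_le_sylow
  set Q : Subgroup G := (QD : Subgroup D).map D.subtype with hQ
  have hyQ : (y : G) ∈ Q := ⟨⟨y, hyD⟩, hQD (mem_zpowers _), rfl⟩
  have hQD' : Q ≤ D := map_subtype_le _
  have hQc : ∀ k, q ^ k ∣ Nat.card C → q ^ k ∣ Nat.card Q := fun k hk => by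
    rw [hQ, card_map_of_injective D.subtype_injective, Sylow.card_eq_multiplicity]
    refine pow_dvd_pow _ ?_
    have h3 := part_eq hp h2 hxC hx (hN y hyo hyx.symm) hq hqp hq1 hc hk
    exact (hq.pow_dvd_iff_le_factorization Nat.card_pos.ne').1 h3
  have hQp : IsPGroup q Q := QD.2.map _
  obtain ⟨S, hS⟩ := hQp.exists_le_sylow
  -- a central element of order `q`
  obtain ⟨z, hzS, hzc, hzo⟩ : ∃ z ∈ (S : Subgroup G), (∀ s ∈ (S : Subgroup G), z * s = s * z) ∧ orderOf z = q := by
    have hne : Nontrivial (S : Subgroup G) := ⟨⟨⟨y, hS hyQ⟩, 1, fun h => by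
      have h5 : (y : G) = 1 := congrArg Subtype.val h
      rw [h5, orderOf_one] at hyo
      exact hq.one_lt.ne hyo⟩⟩
    have h5 : Nontrivial (center (S : Subgroup G)) := S.2.center_nontrivial
    obtain ⟨k, hk⟩ := IsPGroup.iff_card.1 (S.2.to_subgroup (center (S : Subgroup G)))
    have h6 : q ∣ Nat.card (center (S : Subgroup G)) := by
      rw [hk]
      rcases Nat.eq_zero_or_pos k with h7 | h7
      · rw [h7, pow_zero] at hk
        have := Finite.one_lt_card (α := center (S : Subgroup G))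
        omega
      · exact dvd_pow_self q h7.ne'
    obtain ⟨z, hz⟩ := exists_prime_orderOf_dvd_card' q h6
    refine ⟨((z : (S : Subgroup G)) : G), (z : (S : Subgroup G)).2, fun s hs => ?_, ?_⟩
    · exact (congrArg Subtype.val (mem_center_iff.1 z.2 ⟨s, hs⟩)).symm
    · rw [Subgroup.orderOf_coe, Subgroup.orderOf_coe, hz]
  -- `z` is in `Q`
  have hzQ : z ∈ Q := by
    have h7 : Q = (S : Subgroup G) ⊓ C := by
      refine eq_of_le_of_card_ge (le_inf hS (hQD'.trans inf_le_left)) ?_
      obtain ⟨k, hk⟩ := IsPGroup.iff_card.1 (S.2.to_le (inf_le_left (b := C)))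
      rw [hk]
      refine Nat.le_of_dvd Nat.card_pos (hQc k ?_)
      rw [← hk]
      exact card_dvd_of_le inf_le_right
    rw [h7]
    exact ⟨hzS, mem_centralizer_singleton_iff.2 (hzc y (hS hyQ))⟩
  have hzx : z * x = x * z := mem_centralizer_singleton_iff.1 (hQD' hzQ).2
  -- the Sylow subgroup of `G`
  have h8 : q ^ (Nat.card G).factorization q ∣ Nat.card (centralizer ({z} : Set G)) := by
    rw [← Sylow.card_eq_multiplicity S]
    exact card_dvd_of_le fun s hs => mem_centralizer_singleton_iff.2 (hzc s hs).symm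
  have h9 := part_eq hp h2 (mem_centralizer_singleton_iff.2 hzx.symm) hx (hN z hzo hzx.symm) hq hqp hq1 hc h8
  have h10 : q ^ (Nat.card G).factorization q ∣ Nat.card (centralizer ({x} : Set G)) :=
    h9.trans (card_dvd_of_le inf_le_right)
  intro h11
  have h12 : q ^ ((Nat.card G).factorization q + 1) ∣ Nat.card G := by
    have h14 := Nat.mul_dvd_mul h10 h11
    rwa [(centralizer ({x} : Set G)).card_mul_index, ← pow_succ] at h14
  have h13 := (hq.pow_dvd_iff_le_factorization hG0).1 h12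
  omega

/-- **The prime `q` does not divide `|C(x)|`.** -/
theorem kill {p : ℕ} (hp : p.Prime) (h2 : ¬ p ^ 2 ∣ Nat.card G) {x : G}
    (hx : orderOf x = p) {q : ℕ} (hq : q.Prime) (hqp : q ≠ p) (hq1 : ¬ q ∣ p - 1)
    (hc : ∀ i, 1 ≤ i → q ^ i ∣ Nat.card G → ¬ p ∣ q ^ i - 1)
    (hN : ∀ y : G, orderOf y = q → x * y = y * x → Nice p ↥(centralizer ({y} : Set G)))
    {w : G} (hw : orderOf w = q) (hpw : ¬ p ∣ Nat.card (centralizer ({w} : Set G))) :
    ¬ q ∣ Nat.card (centralizer ({x} : Set G)) := by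
  intro hqx
  obtain ⟨g, hg⟩ := Cfsg.Agent.H568.TriPair.exists_conj_comm hq (not_dvd_index hp h2 hx hq hqp hq1 hc hN hqx) (k := 1)
    (hw.trans (pow_one q).symm)
  apply hpw
  have h9 : g⁻¹ * x * g ∈ centralizer ({w} : Set G) := by
    rw [mem_centralizer_singleton_iff]
    calc g⁻¹ * x * g * w = g⁻¹ * (x * (g * w * g⁻¹)) * g := by group
      _ = g⁻¹ * ((g * w * g⁻¹) * x) * g := by rw [hg]
      _ = w * (g⁻¹ * x * g) := by group
  have h10 : orderOf (g⁻¹ * x * g) = p := by
    rw [← hx]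
    have := MulEquiv.orderOf_eq (MulAut.conj g⁻¹) x
    rwa [MulAut.conj_apply, inv_inv] at this
  rw [← h10, ← Subgroup.orderOf_mk _ h9]
  exact orderOf_dvd_natCard _

theorem Nice.of_solIdx {p : ℕ} (hp : p.Prime) {X : Type u} [Group X] [Finite X] (hd : p ∣ Nat.card X)
    (h2 : ¬ p ^ 2 ∣ Nat.card X) (h : SolIdx p X) : Nice p X := normal_of_solIdx hp hd h2 h

end Cfsg.Agent.H438.Fpr.LemB
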