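import Cfsg.Agent.H438.Fpr.MonC
import Cfsg.Agent.H438.Fpr.LemB
import Cfsg.Agent.H438.Fpr.HNC
import Cfsg.Agent.H190.Exc.Main
import Cfsg.Agent.OddOrderLocal.RankQuot

/-!
# Groups all of whose involutions are 6-transpositions (helper438)

`odd` : `|X|` divides `|M|` and is divisible by 41, the involution centralizers have order prime to 41, the products of two
conjugate involutions have order at most 6, and the 2-rank is at most 3: then `|X|` is odd.
-/

set_option autoImplicit false
set_option maxRecDepth 100000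

namespace Cfsg.Agent.H438.Fpr.MonD

open Subgroup Cfsg Cfsg.Agent.OrdDiv Cfsg.Agent.H940.Eng.D Cfsg.Agent.H291.SolNorm Cfsg.Agent.H995.CopEngine
open scoped Pointwise

universe u

/-- the conditions on the involutions -/
structure Tr (p : ℕ) (X : Type u) [Group X] : Prop where
  cent : ∀ t : X, orderOf t = 2 → ¬ p ∣ Nat.card (centralizer ({t} : Set X))
  six : ∀ t g : X, orderOf t = 2 → orderOf (t * (g * t * g⁻¹)) ≤ 6

variable {X : Type u} [Group X] [Finite X] {p : ℕ}

omit [Finite X] in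
theorem Tr.sub (h : Tr p X) (S : Subgroup X) : Tr p S := by
  refine ⟨fun t ht hd => h.cent (t : X) (by rw [Subgroup.orderOf_coe, ht]) (hd.trans ?_), fun t g ht => ?_⟩
  · rw [← card_map_of_injective S.subtype_injective]
    refine card_dvd_of_le ?_
    rintro _ ⟨c, hc, rfl⟩
    exact mem_centralizer_singleton_iff.2 (congrArg Subtype.val (mem_centralizer_singleton_iff.1 hc))
  · have h1 := h.six (t : X) g (by rw [Subgroup.orderOf_coe, ht])
    have h2 : ((t * (g * t * g⁻¹) : S) : X) = (t : X) * ((g : X) * t * (g : X)⁻¹) := rfl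
    rwa [← h2, Subgroup.orderOf_coe] at h1

theorem Tr.quot (hp : p.Prime) (h : Tr p X) (K : Subgroup X) [K.Normal] (hK : ¬ 2 ∣ Nat.card K) : Tr p (X ⧸ K) := by
  have hpf := Fact.mk hp
  refine ⟨fun t ht hd => ?_, fun t g ht => ?_⟩
  · obtain ⟨b, hb⟩ := exists_prime_orderOf_dvd_card' p hd
    obtain ⟨y, hy, rfl⟩ := Cfsg.Agent.H190.Exc.exists_lift_order K Nat.prime_two hK t ht
    obtain ⟨c, hc, hcb⟩ := Cfsg.Agent.H190.Exc.exists_lift_comm K Nat.prime_two hK hy
      (show Commute (b : X ⧸ K) (QuotientGroup.mk' K y) from mem_centralizer_singleton_iff.1 b.2)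
    apply h.cent y hy
    have h1 : p ∣ orderOf c := by
      have h2 := orderOf_map_dvd (QuotientGroup.mk' K) c
      rwa [hcb, Subgroup.orderOf_coe, hb] at h2
    refine h1.trans ?_
    rw [← Subgroup.orderOf_mk c (mem_centralizer_singleton_iff.2 hc.eq)]
    exact orderOf_dvd_natCard _
  · obtain ⟨y, hy, rfl⟩ := Cfsg.Agent.H190.Exc.exists_lift_order K Nat.prime_two hK t ht
    obtain ⟨g, rfl⟩ := QuotientGroup.mk'_surjective K g
    have h1 := h.six y g hy
    have h2 := orderOf_map_dvd (QuotientGroup.mk' K) (y * (g * y * g⁻¹))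
    rw [map_mul, map_mul, map_mul, map_inv] at h2
    exact (Nat.le_of_dvd (orderOf_pos _) h2).trans h1

/-- the normalizers of the groups of order `p` have odd order -/
theorem Tr.norm (hp : p.Prime) (h6 : 6 < p) (h : Tr p X) {x : X} (hx : orderOf x = p) :
    ¬ 2 ∣ Nat.card (normalizer ((zpowers x : Subgroup X) : Set X)) := by
  intro h2
  have h2f : Fact (Nat.Prime 2) := ⟨Nat.prime_two⟩
  obtain ⟨t', ht'⟩ := exists_prime_orderOf_dvd_card' 2 h2
  set t : X := (t' : X) with htdef
  have ht : orderOf t = 2 := by rw [htdef, Subgroup.orderOf_coe, ht']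
  have htt : t * t = 1 := by rw [← pow_two, ← ht, pow_orderOf_eq_one]
  have hmem : t * (x * t * x⁻¹) ∈ zpowers x := by
    have h4 : t * x * t⁻¹ ∈ zpowers x := (mem_normalizer_iff.1 t'.2 x).1 (mem_zpowers x)
    have h5 : t * (x * t * x⁻¹) = (t * x * t⁻¹) * x⁻¹ := by
      rw [inv_eq_of_mul_eq_one_left htt]
      group
    rw [h5]
    exact mul_mem h4 (inv_mem (mem_zpowers x))
  have h7 : orderOf (t * (x * t * x⁻¹)) ∣ p := by
    rw [← hx, ← Nat.card_zpowers x]
    exact Subgroup.orderOf_dvd_natCard _ hmem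
  have h8 := h.six t x ht
  rcases (Nat.dvd_prime hp).1 h7 with h9 | h9
  · rw [orderOf_eq_one_iff] at h9
    have h10 : x * t * x⁻¹ = t := by
      calc x * t * x⁻¹ = t⁻¹ * (t * (x * t * x⁻¹)) := by group
        _ = t⁻¹ := by rw [h9, mul_one]
        _ = t := inv_eq_of_mul_eq_one_left htt
    refine h.cent t ht ?_
    have h11 : x ∈ centralizer ({t} : Set X) := mem_centralizer_singleton_iff.2 (mul_inv_eq_iff_eq_mul.1 h10)
    rw [← hx, ← Subgroup.orderOf_mk x h11]
    exact orderOf_dvd_natCard _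
  · omega

omit [Finite X] in
theorem rank_sub {q k : ℕ} (h : PRankLE q k X) (S : Subgroup X) : PRankLE q k S := by
  intro A hA ha
  have h1 : IsMulCommutative (A.map S.subtype) := by
    refine ⟨⟨?_⟩⟩
    rintro ⟨_, a, ha, rfl⟩ ⟨_, b, hb, rfl⟩
    have h2 := hA.is_comm.comm (⟨a, ha⟩ : A) ⟨b, hb⟩
    exact Subtype.ext (congrArg (fun c : A => ((c : S) : X)) h2)
  have h2 := h (A.map S.subtype) h1 (by
    rintro _ ⟨a, ha', rfl⟩
    have := ha a ha'
    show ((a : S) : X) ^ q = 1
    rw [← Subgroup.coe_pow, this]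
    rfl)
  rwa [card_map_of_injective S.subtype_injective] at h2

theorem mem_normalizer_of_conj {S : Subgroup X} {y : X} (h : ∀ s ∈ S, y * s * y⁻¹ ∈ S) :
    y ∈ normalizer (S : Set X) := by
  have hinj : Function.Injective (fun g : S => (⟨y * g * y⁻¹, h g g.2⟩ : S)) := by
    intro a b hab
    have h1 : y * (a : X) * y⁻¹ = y * b * y⁻¹ := congrArg Subtype.val hab
    exact Subtype.ext (mul_left_cancel (mul_right_cancel h1))
  rw [mem_normalizer_iff]
  intro z
  constructor
  · exact h z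
  · intro hz
    obtain ⟨c, hc⟩ := Finite.surjective_of_injective hinj ⟨_, hz⟩
    have h2 : y * (c : X) * y⁻¹ = y * z * y⁻¹ := congrArg Subtype.val hc
    have h3 : (c : X) = z := mul_left_cancel (mul_right_cancel h2)
    rw [← h3]
    exact c.2

/-- the elements of order 2 of the centre of a subgroup -/
def omg (T : Subgroup X) : Subgroup X where
  carrier := {a | a ∈ T ∧ (∀ b ∈ T, a * b = b * a) ∧ a * a = 1}
  one_mem' := ⟨T.one_mem, fun b _ => by rw [one_mul, mul_one], one_mul 1⟩
  mul_mem' := by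
    rintro a b ⟨h1, h2, h3⟩ ⟨h4, h5, h6⟩
    refine ⟨T.mul_mem h1 h4, fun c hc => ?_, ?_⟩
    · rw [mul_assoc, h5 c hc, ← mul_assoc, h2 c hc, mul_assoc]
    · calc a * b * (a * b) = a * (b * a) * b := by group
        _ = a * (a * b) * b := by rw [h2 b h4]
        _ = (a * a) * (b * b) := by group
        _ = 1 := by rw [h3, h6, one_mul]
  inv_mem' := by
    rintro a ⟨h1, h2, h3⟩
    have h4 : a⁻¹ = a := inv_eq_of_mul_eq_one_left h3
    rw [h4]
    exact ⟨h1, h2, h3⟩

/-- an element of order `p` does not normalize a nontrivial 2-subgroup if the 2-rank is small -/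
theorem two_triv (hp : p.Prime) (h8 : 8 < p) (h : Tr p X) (hr : PRankLE 2 3 X) {x : X} (hx : orderOf x = p)
    {T : Subgroup X} (hT : IsPGroup 2 T) (hxT : ∀ a ∈ T, x * a * x⁻¹ ∈ T) : T = ⊥ := by
  by_contra hne
  have h2f : Fact (Nat.Prime 2) := ⟨Nat.prime_two⟩
  set A := omg T with hA
  -- `A` is not trivial
  have hnt : Nontrivial T := T.nontrivial_iff_ne_bot.2 hne
  have h5 : Nontrivial (center T) := hT.center_nontrivial
  obtain ⟨k, hk⟩ := IsPGroup.iff_card.1 (hT.to_subgroup (center T))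
  have h6 : 2 ∣ Nat.card (center T) := by
    rw [hk]
    rcases Nat.eq_zero_or_pos k with h7 | h7
    · rw [h7, pow_zero] at hk
      have := Finite.one_lt_card (α := center T)
      omega
    · exact dvd_pow_self 2 h7.ne'
  obtain ⟨z, hz⟩ := exists_prime_orderOf_dvd_card' 2 h6
  have hzo : orderOf (((z : T) : X)) = 2 := by rw [Subgroup.orderOf_coe, Subgroup.orderOf_coe, hz]
  have hzA : ((z : T) : X) ∈ A := by
    refine ⟨(z : T).2, fun b hb => ?_, ?_⟩
    · exact (congrArg Subtype.val (mem_center_iff.1 z.2 ⟨b, hb⟩)).symm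
    · rw [← pow_two, ← hzo, pow_orderOf_eq_one]
  have hcomm : IsMulCommutative A :=
    ⟨⟨fun a b => Subtype.ext (a.2.2.1 b b.2.1)⟩⟩
  have h8' : Nat.card A ≤ 2 ^ 3 := hr A hcomm fun a ha => by rw [pow_two]; exact ha.2.2
  have h1 : 1 < Nat.card A := by
    have : Nontrivial A := ⟨⟨⟨_, hzA⟩, 1, fun h => by
      have h5 : ((z : T) : X) = 1 := congrArg Subtype.val h
      rw [h5, orderOf_one] at hzo
      norm_num at hzo⟩⟩
    exact Finite.one_lt_card
  -- `x` normalizes `T` and `A`
  have hconj : ∀ a ∈ A, x * a * x⁻¹ ∈ A := by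
    have hsurj : ∀ b ∈ T, ∃ c ∈ T, x * c * x⁻¹ = b := by
      have hinj : Function.Injective (fun c : T => (⟨x * c * x⁻¹, hxT c c.2⟩ : T)) := by
        intro a b hab
        have h1 : x * (a : X) * x⁻¹ = x * b * x⁻¹ := congrArg Subtype.val hab
        exact Subtype.ext (mul_left_cancel (mul_right_cancel h1))
      intro b hb
      obtain ⟨c, hc⟩ := Finite.surjective_of_injective hinj ⟨b, hb⟩
      exact ⟨c, c.2, congrArg Subtype.val hc⟩
    rintro a ⟨ha1, ha2, ha3⟩
    refine ⟨hxT a ha1, fun b hb => ?_, ?_⟩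
    · obtain ⟨c, hc, rfl⟩ := hsurj b hb
      calc x * a * x⁻¹ * (x * c * x⁻¹) = x * (a * c) * x⁻¹ := by group
        _ = x * (c * a) * x⁻¹ := by rw [ha2 c hc]
        _ = x * c * x⁻¹ * (x * a * x⁻¹) := by group
    · calc x * a * x⁻¹ * (x * a * x⁻¹) = x * (a * a) * x⁻¹ := by group
        _ = 1 := by rw [ha3]; group
  have hnA : zpowers x ≤ normalizer (A : Set X) := by
    rw [zpowers_le]
    exact mem_normalizer_of_conj hconj
  have hC : A ⊓ centralizer ((zpowers x : Subgroup X) : Set X) = ⊥ := by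
    rw [eq_bot_iff]
    rintro a ⟨ha1, ha2⟩
    rw [mem_bot]
    by_contra ha
    have hao : orderOf a = 2 := orderOf_eq_prime (by rw [pow_two]; exact ha1.2.2) ha
    refine h.cent a hao ?_
    have h11 : x ∈ centralizer ({a} : Set X) :=
      mem_centralizer_singleton_iff.2 (mem_centralizer_iff.1 ha2 x (mem_zpowers x))
    rw [← hx, ← Subgroup.orderOf_mk x h11]
    exact orderOf_dvd_natCard _
  have h9 := Cfsg.Agent.H438.Fpr.HN.card_mod hp (R := zpowers x) (by rw [Nat.card_zpowers, hx]) hnA hC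
  have h10 : Nat.card A = 1 := by
    have h12 : Nat.card A % p = 1 % p := h9
    rwa [Nat.mod_eq_of_lt (by omega), Nat.mod_eq_of_lt hp.one_lt] at h12
  omega

/-- the Frattini argument -/
theorem card_dvd (hp : p.Prime) (h2 : ¬ p ^ 2 ∣ Nat.card X) {x : X} (hx : orderOf x = p) {K : Subgroup X} [K.Normal]
    (hPK : ∀ P : Sylow p X, ((P : Subgroup X) ⊔ K).Normal) :
    Nat.card X ∣ Nat.card K * Nat.card (normalizer ((zpowers x : Subgroup X) : Set X)) := by
  have hpf := Fact.mk hp
  have hidx : ¬ p ∣ (zpowers x).index := by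
    intro h1
    apply h2
    rw [← (zpowers x).card_mul_index, Nat.card_zpowers, hx, pow_two]
    exact Nat.mul_dvd_mul_left p h1
  have hpg : IsPGroup p (zpowers x) := IsPGroup.of_card (n := 1) (by rw [Nat.card_zpowers, hx, pow_one])
  let P : Sylow p X := hpg.toSylow hidx
  have hPx : (P : Subgroup X) = zpowers x := rfl
  have hT := hPK P
  set T : Subgroup X := (P : Subgroup X) ⊔ K with hTdef
  have hPT : (P : Subgroup X) ≤ T := le_sup_left
  set N : Subgroup X := normalizer ((P : Subgroup X) : Set X) with hNdef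
  have hF : N ⊔ K = ⊤ := by
    have h3 := Sylow.normalizer_sup_eq_top (P.subtype hPT)
    have h4 : ((P.subtype hPT : Sylow p T) : Subgroup T).map T.subtype = (P : Subgroup X) := by
      rw [Sylow.coe_subtype, subgroupOf_map_subtype, inf_eq_left.2 hPT]
    rw [h4] at h3
    rw [eq_top_iff, ← h3]
    refine sup_le le_sup_left ?_
    rw [hTdef]
    exact sup_le (le_trans le_normalizer le_sup_left) le_sup_right
  have e1 : K.index = K.relIndex N := by
    rw [← relIndex_top_right, ← hF, sup_comm, relIndex_sup_left]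
  rw [← K.card_mul_index, e1]
  exact Nat.mul_dvd_mul_left _ (relIndex_dvd_card K N)

/-- the arithmetic of the simple groups -/
theorem no_num {s ν : ℕ} (hs : s = 34440 ∨ s = 265680) (h1 : 41 ∣ ν) (h2 : ν ∣ s) (h3 : ¬ 2 ∣ ν)
    (h4 : s / ν % 41 = 1) : False := by
  have key : ∀ s ∈ ([34440, 265680] : List ℕ), ((List.range (s / 41 + 1)).all fun d =>
      Nat.beq (d % 2) 0 || s % (41 * d) != 0 || s / (41 * d) % 41 != 1) = true := by decide +kernel
  have h5 := key s (by simp [hs])
  obtain ⟨d, rfl⟩ := h1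
  have hs0 : 0 < s := by rcases hs with rfl | rfl <;> norm_num
  have hd : d < s / 41 + 1 := by
    have h6 := Nat.le_of_dvd hs0 h2
    have h7 : d ≤ s / 41 := (Nat.le_div_iff_mul_le (by norm_num)).2 (by rwa [mul_comm])
    omega
  have h6 := (List.all_eq_true.1 h5) d (List.mem_range.2 hd)
  rw [Bool.or_eq_true, Bool.or_eq_true] at h6
  rcases h6 with (h6 | h6) | h6
  · apply h3
    have h7 := Nat.eq_of_beq_eq_true h6
    exact (Nat.dvd_of_mod_eq_zero h7).mul_left _
  · rw [bne_iff_ne] at h6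
    exact h6 (Nat.mod_eq_zero_of_dvd h2)
  · rw [bne_iff_ne] at h6
    exact h6 h4

/-- the number of the Sylow subgroups -/
theorem sylow_num (hp : p.Prime) (h2 : ¬ p ^ 2 ∣ Nat.card X) {x : X} (hx : orderOf x = p) :
    p ∣ Nat.card (normalizer ((zpowers x : Subgroup X) : Set X)) ∧
    Nat.card X / Nat.card (normalizer ((zpowers x : Subgroup X) : Set X)) % p = 1 % p := by
  have hpf := Fact.mk hp
  have hidx : ¬ p ∣ (zpowers x).index := by
    intro h1
    apply h2
    rw [← (zpowers x).card_mul_index, Nat.card_zpowers, hx, pow_two]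
    exact Nat.mul_dvd_mul_left p h1
  have hpg : IsPGroup p (zpowers x) := IsPGroup.of_card (n := 1) (by rw [Nat.card_zpowers, hx, pow_one])
  let P : Sylow p X := hpg.toSylow hidx
  have h1 := card_sylow_modEq_one p X
  rw [Sylow.card_eq_index_normalizer P] at h1
  refine ⟨?_, ?_⟩
  · have h3 : Nat.card (zpowers x) ∣ Nat.card (normalizer ((zpowers x : Subgroup X) : Set X)) := card_dvd_of_le le_normalizer
    rwa [Nat.card_zpowers, hx] at h3
  · have h4 : (normalizer ((zpowers x : Subgroup X) : Set X)).index % p = 1 % p := h1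
    rw [← (normalizer ((zpowers x : Subgroup X) : Set X)).card_mul_index, Nat.mul_div_cancel_left _ Nat.card_pos]
    exact h4

end Cfsg.Agent.H438.Fpr.MonD

namespace Cfsg.Agent.H438.Fpr.MonD

open Subgroup Cfsg Cfsg.Agent.OrdDiv Cfsg.Agent.H940.Eng.D Cfsg.Agent.H291.SolNorm Cfsg.Agent.H995.CopEngine
open scoped Pointwise

/-- **The order of `X` is odd.** -/
theorem odd {X : Type} [Group X] [Finite X] (hT : Tr 41 X) (hr : PRankLE 2 3 X) (hd : Nat.card X ∣ n_m)
    (h41 : 41 ∣ Nat.card X) : ¬ 2 ∣ Nat.card X := by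
  have h41p : Nat.Prime 41 := by norm_num
  have hpf := Fact.mk h41p
  have h2f : Fact (Nat.Prime 2) := ⟨Nat.prime_two⟩
  have hsq : ¬ 41 ^ 2 ∣ n_m := by norm_num [n_m]
  have hX2 : ¬ 41 ^ 2 ∣ Nat.card X := fun h => hsq (h.trans hd)
  obtain ⟨x, hx⟩ := exists_prime_orderOf_dvd_card' (G := X) 41 h41
  obtain ⟨K, hK, h41K, hcase⟩ := dich h41p h41 hX2
  -- `|K|` is odd
  have hodd : ¬ 2 ∣ Nat.card K := by
    intro h2
    obtain ⟨P, hP⟩ := exists_fixed h41p K h41K (w := x) (by rw [← hx, pow_orderOf_eq_one]) (p := 2)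
    have h3 : (P : Subgroup K).map K.subtype = ⊥ := by
      refine two_triv h41p (by norm_num) hT hr hx (P.2.map _) ?_
      rintro _ ⟨a, ha, rfl⟩
      have h4 : (MulAut.conjNormal x : MulAut K) a ∈ (P : Subgroup K) := by
        rw [← hP, Sylow.pointwise_smul_def]
        exact ⟨a, ha, rfl⟩
      exact ⟨_, h4, by simp⟩
    rw [(map_eq_bot_iff_of_injective _ K.subtype_injective)] at h3
    have h4 := Sylow.card_eq_multiplicity P
    rw [h3, card_bot] at h4
    have h5 : 0 < (Nat.card K).factorization 2 :=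
      (Nat.Prime.factorization_pos_of_dvd Nat.prime_two Nat.card_pos.ne' h2)
    have h6 : 2 ^ 1 ≤ 2 ^ (Nat.card K).factorization 2 := Nat.pow_le_pow_right (by norm_num) h5
    omega
  rcases hcase with hPK | ⟨S, hS, hna, h41S, -⟩
  · intro h2
    rcases Nat.prime_two.dvd_mul.1 (h2.trans (card_dvd h41p hX2 hx hPK)) with h3 | h3
    · exact hodd h3
    · exact hT.norm h41p (by norm_num) hx h3
  · exfalso
    have hTS : Tr 41 S := (hT.quot h41p K hodd).sub S
    have hrS : PRankLE 2 3 S := rank_sub (Cfsg.Agent.OddOrderLocal.RankQuot.pRankLE_quotient_of_not_dvd K hodd hr) S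
    have hSd : Nat.card S ∣ n_m :=
      ((card_subgroup_dvd_card S).trans (card_quotient_dvd_card K)).trans hd
    have hs := MonC.three hSd h41S hrS hna
    obtain ⟨y, hy⟩ := exists_prime_orderOf_dvd_card' (G := S) 41 h41S
    obtain ⟨h5, h6⟩ := sylow_num h41p (fun h => hsq (h.trans hSd)) hy
    exact no_num hs h5 (card_subgroup_dvd_card _) (hTS.norm h41p (by norm_num) hy) h6

end Cfsg.Agent.H438.Fpr.MonD
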