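import Cfsg.Agent.H438.Fpr.MonB
import Cfsg.Agent.H438.Fpr.MonD
import Cfsg.Agent.BpSpor.MBigEleven
import Cfsg.Agent.BpMon.Thirteen
import Cfsg.Agent.MSevenT.Closed
import Cfsg.Agent.H291.SCMon
import Cfsg.Agent.CpAutMSeven.ZeroComps

/-!
# Fixed point ratios in the Monster, `p = 41` (helper438)

The primes 7, 13, 17, 19, 31, 47, 59 do not divide `|C(x)|`, `x` of order 41, and `3^20` neither.
-/

set_option autoImplicit false
set_option maxRecDepth 100000

namespace Cfsg.Agent.H438.Fpr.Mon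

open Subgroup MulAction Cfsg Cfsg.Agent.H409 Cfsg.Agent.H940.Eng Cfsg.Agent.H715.Fpr Cfsg.Agent.H444.FprM
open Cfsg.Agent.H940.Eng.D Cfsg.Agent.OrdDiv Cfsg.Agent.H438.Fpr.SylIdx Cfsg.Agent.H438.Fpr.LemB
open Cfsg.Agent.H438.Fpr.MonD Cfsg.Agent.H291.SolNorm
open Cfsg.Agent.MonsterX.MainPack Cfsg.Agent.MonsterP Cfsg.Agent.MonsterN Cfsg.Agent.MonsterX
open Cfsg.Agent.LThreeMB (fr zD KChart.chart KChart.pi exists_XX_equiv)
open Cfsg.Agent.BpSpor.MBigModel (zz cls card_cent_z card_cent_t exists_zconj)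

/-- no conjugate of `z` commutes with `y` -/
def NoZ (y : MG) : Prop := ∀ g : MG, (g * zz * g⁻¹) * y ≠ y * (g * zz * g⁻¹)

theorem six_of_ta {v : MG} (hv : LThreeB.Row.TA v) (g : MG) : orderOf (v * (g * v * g⁻¹)) ≤ 6 := by
  obtain ⟨k, hk⟩ := isConj_iff.1 hv
  have h6 := MonsterX.MainPack.six LitFin.all.hG LitFin.all.hR LitFin.all.hL LitFin.all.hO LitFin.all.hT
      Cfsg.Agent.MonsterX.InstanceFinal.mExtra.order_le (k⁻¹ * g * k)
  have h7 : v * (g * v * g⁻¹) = k * (tG LitFin.all.hG LitFin.all.hR *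
      ((k⁻¹ * g * k) * tG LitFin.all.hG LitFin.all.hR * (k⁻¹ * g * k)⁻¹)) * k⁻¹ := by
    rw [← hk]
    group
  rw [h7, Cfsg.Agent.H568.SC.Mon.conj_order]
  exact h6

theorem tr_cent {y : MG} (hz : NoZ y) {p : ℕ} (h0 : ¬ p ∣ 2 ^ 25 * 4157776806543360000)
    (h1 : ¬ p ∣ 2 * 4154781481226426191177580544000000) : Tr p ↥(centralizer ({y} : Set MG)) := by
  refine ⟨fun t ht hd => inv_not_dvd h0 h1 (t : MG) (by rw [Subgroup.orderOf_coe, ht]) (hd.trans ?_), fun t g ht => ?_⟩
  · rw [← card_map_of_injective (centralizer ({y} : Set MG)).subtype_injective]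
    refine card_dvd_of_le ?_
    rintro _ ⟨c, hc, rfl⟩
    exact mem_centralizer_singleton_iff.2 (congrArg Subtype.val (mem_centralizer_singleton_iff.1 hc))
  · rcases cls (v := (t : MG)) (by rw [Subgroup.orderOf_coe, ht]) with ⟨k, hk⟩ | h
    · exfalso
      apply hz k
      rw [hk]
      exact mem_centralizer_singleton_iff.1 t.2
    · have h2 := six_of_ta h (g : MG)
      have h3 : ((t * (g * t * g⁻¹) : centralizer ({y} : Set MG)) : MG) = (t : MG) * ((g : MG) * t * (g : MG)⁻¹) := rfl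
      rwa [← h3, Subgroup.orderOf_coe] at h2

theorem rank_cent {y : MG} (hz : NoZ y) : PRankLE 2 3 ↥(centralizer ({y} : Set MG)) := by
  have := Cfsg.Agent.H444.FprM.finite
  have h2f : Fact (Nat.Prime 2) := ⟨Nat.prime_two⟩
  intro A hA ha
  by_contra hlt
  rw [not_le] at hlt
  have hpg : IsPGroup 2 A := fun a => ⟨1, by rw [pow_one]; exact Subtype.ext (ha a a.2)⟩
  obtain ⟨k, hk⟩ := IsPGroup.iff_card.1 hpg
  have h16 : 16 ≤ Nat.card A := by
    rw [hk] at hlt ⊢
    have h1 : 3 < k := (Nat.pow_lt_pow_iff_right (by norm_num)).1 hlt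
    calc 16 = 2 ^ 4 := by norm_num
      _ ≤ 2 ^ k := Nat.pow_le_pow_right (by norm_num) h1
  obtain ⟨w, ⟨v, hv, hvw⟩, g, hg⟩ := exists_zconj (A.map (centralizer ({y} : Set MG)).subtype) (by
    rintro _ ⟨a, ha', rfl⟩
    have := ha a ha'
    rw [pow_two] at this
    exact congrArg Subtype.val this) (by
    rwa [card_map_of_injective (centralizer ({y} : Set MG)).subtype_injective])
  apply hz g
  rw [hg, ← hvw]
  exact mem_centralizer_singleton_iff.1 v.2

/-- **No conjugate of `z` and an element of order 41 in `C(y)`: `|C(y)|` is odd.** -/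
theorem odd_cent {y : MG} (hz : NoZ y) (h41 : 41 ∣ Nat.card (centralizer ({y} : Set MG))) :
    ¬ 2 ∣ Nat.card (centralizer ({y} : Set MG)) := by
  have := Cfsg.Agent.H444.FprM.finite
  exact MonD.odd (tr_cent hz (by norm_num) (by norm_num)) (rank_cent hz) (card_MG ▸ card_subgroup_dvd_card _) h41

theorem dvd_of_comm {G : Type*} [Group G] {x y : G} (h : x * y = y * x) :
    orderOf x ∣ Nat.card (centralizer ({y} : Set G)) :=
  Subgroup.orderOf_dvd_natCard _ (mem_centralizer_singleton_iff.2 h)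

theorem nice_of_noZ {x y : MG} (hx : orderOf x = 41) (hxy : x * y = y * x) (hz : NoZ y) :
    Nice 41 ↥(centralizer ({y} : Set MG)) := by
  have := Cfsg.Agent.H444.FprM.finite
  have h41 : 41 ∣ Nat.card (centralizer ({y} : Set MG)) := hx ▸ dvd_of_comm hxy
  have h2 := odd_cent hz h41
  refine Nice.of_solIdx (by norm_num) h41 (fun h => ?_) (SolIdx.of_solvable (by norm_num) (S0205.result ?_))
  · exact absurd (card_MG ▸ h.trans (card_subgroup_dvd_card _)) (by norm_num [n_m] : ¬ 41 ^ 2 ∣ n_m)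
  · rw [← Nat.not_even_iff_odd]
    exact fun h => h2 h.two_dvd

theorem nice_of_solIdx {x y : MG} (hx : orderOf x = 41) (hxy : x * y = y * x)
    (h : SolIdx 41 ↥(centralizer ({y} : Set MG))) : Nice 41 ↥(centralizer ({y} : Set MG)) := by
  have := Cfsg.Agent.H444.FprM.finite
  refine Nice.of_solIdx (by norm_num) (hx ▸ dvd_of_comm hxy) (fun h => ?_) h
  exact absurd (card_MG ▸ h.trans (card_subgroup_dvd_card _)) (by norm_num [n_m] : ¬ 41 ^ 2 ∣ n_m)

/-- a transposition -/
theorem exists_ta : ∃ v : MG, orderOf v = 2 ∧ LThreeB.Row.TA v :=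
  ⟨tG LitFin.all.hG LitFin.all.hR, Cfsg.Agent.H713.Spor.MOf.orderOf_t LitFin.all.hG LitFin.all.hR,
    isConj_iff.2 ⟨1, by group⟩⟩

/-- an element of order `q` commuting with a transposition -/
theorem exists_w {q : ℕ} (hq : q.Prime) (hd : q ∣ 2 * 4154781481226426191177580544000000) :
    ∃ w v : MG, orderOf w = q ∧ orderOf v = 2 ∧ LThreeB.Row.TA v ∧ v * w = w * v := by
  have := Cfsg.Agent.H444.FprM.finite
  have hqf := Fact.mk hq
  obtain ⟨v, hv, hvt⟩ := exists_ta
  obtain ⟨w, hw⟩ := exists_prime_orderOf_dvd_card' (G := centralizer ({v} : Set MG)) q (by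
    rw [card_cent_t hvt]; exact hd)
  exact ⟨w, v, by rw [Subgroup.orderOf_coe, hw], hv, hvt, (mem_centralizer_singleton_iff.1 w.2).symm⟩

theorem not_dvd_w {w v : MG} (hv : orderOf v = 2) (hvw : v * w = w * v) (hz : NoZ w) :
    ¬ 41 ∣ Nat.card (centralizer ({w} : Set MG)) := fun h =>
  odd_cent hz h (hv ▸ dvd_of_comm hvw)

/-- the primes not dividing `|C(z)|` -/
theorem noZ_of {q : ℕ} (h0 : ¬ q ∣ 2 ^ 25 * 4157776806543360000) {y : MG} (hy : orderOf y = q) : NoZ y := by
  intro g h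
  apply h0
  rw [← card_cent_z, ← Cfsg.Agent.BpSpor.card_cent_of_conj (c := g) (u := zz) (v := g * zz * g⁻¹) rfl]
  rw [← hy]
  exact dvd_of_comm h.symm

theorem kill_q {q : ℕ} (hq : q.Prime) (hq41 : q ≠ 41) (hq40 : ¬ q ∣ 41 - 1)
    (hc : ∀ i, 1 ≤ i → q ^ i ∣ Nat.card MG → ¬ 41 ∣ q ^ i - 1)
    (h0 : ¬ q ∣ 2 ^ 25 * 4157776806543360000) (hd : q ∣ 2 * 4154781481226426191177580544000000)
    {x : MG} (hx : orderOf x = 41) : ¬ q ∣ Nat.card (centralizer ({x} : Set MG)) := by
  have := Cfsg.Agent.H444.FprM.finite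
  obtain ⟨w, v, hw, hv, -, hvw⟩ := exists_w hq hd
  exact kill (by norm_num) (by rw [card_M]; norm_num) hx hq hq41 hq40 hc
    (fun y hy hxy => nice_of_noZ hx hxy (noZ_of h0 hy)) hw (not_dvd_w hv hvw (noZ_of h0 hw))

/-! ### the prime 13 -/

theorem only_z13 {y : MG} (hy : orderOf y = 13) {g : MG} (hg : (g * zz * g⁻¹) * y = y * (g * zz * g⁻¹)) :
    SolIdx 41 ↥(centralizer ({y} : Set MG)) ∧ ∀ v : MG, orderOf v = 2 → v * y = y * v → ∃ k : MG, k * zz * k⁻¹ = v := by
  have := Cfsg.Agent.H444.FprM.finite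
  have h1 : (g⁻¹ * y * g) * KDone.K.z = KDone.K.z * (g⁻¹ * y * g) := by
    calc (g⁻¹ * y * g) * KDone.K.z = g⁻¹ * (y * (g * KDone.K.z * g⁻¹)) * g := by group
      _ = g⁻¹ * ((g * KDone.K.z * g⁻¹) * y) * g := by rw [hg]
      _ = KDone.K.z * (g⁻¹ * y * g) := by group
  let x' : centralizer ({KDone.K.z} : Set MG) := ⟨g⁻¹ * y * g, mem_centralizer_singleton_iff.2 h1⟩
  have h3 : g * (x' : MG) * g⁻¹ = y := by
    change g * (g⁻¹ * y * g) * g⁻¹ = y
    group
  have hx' : orderOf x' = 13 := by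
    rw [← Subgroup.orderOf_coe, ← hy, ← h3]
    exact (orderOf_injective (MulAut.conj g).toMonoidHom (MulAut.conj g).injective (x' : MG)).symm
  have hone := BpMon.Thirteen.only_zD KDone.lft MFive.Row.hc hx'
  have hzz : (zz : MG) * zz = 1 := Cfsg.Agent.BpSpor.MBigModel.zz_sq
  constructor
  · obtain ⟨⟨e⟩, -⟩ := exists_XX_equiv h3
    refine SolIdx.congr (Cfsg.Agent.H291.SCMon.zero_of (KChart.chart KDone.lft MFive.Row.hc) (x := x') (by norm_num) ?_) e
    intro d hd hc
    have h5 : d * KDone.K.z * d⁻¹ * (x' : MG) = (x' : MG) * (d * KDone.K.z * d⁻¹) := by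
      have hxz : (x' : MG) * KDone.K.z = KDone.K.z * x' := mem_centralizer_singleton_iff.1 x'.2
      have hdi : d⁻¹ * (x' : MG) = x' * d⁻¹ := by
        rw [inv_mul_eq_iff_eq_mul, ← mul_assoc, hd, mul_inv_cancel_right]
      calc d * KDone.K.z * d⁻¹ * (x' : MG) = d * KDone.K.z * (x' * d⁻¹) := by rw [mul_assoc, hdi]
        _ = d * (KDone.K.z * x') * d⁻¹ := by group
        _ = d * (x' * KDone.K.z) * d⁻¹ := by rw [hxz]
        _ = (d * x') * KDone.K.z * d⁻¹ := by group
        _ = (x' * d) * KDone.K.z * d⁻¹ := by rw [hd]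
        _ = _ := by group
    rcases hone ⟨d * KDone.K.z * d⁻¹, mem_centralizer_singleton_iff.2 h5⟩ (Subtype.ext (by
        change d * KDone.K.z * d⁻¹ * (d * KDone.K.z * d⁻¹) = 1
        calc d * KDone.K.z * d⁻¹ * (d * KDone.K.z * d⁻¹) = d * (zz * zz) * d⁻¹ := by group
          _ = 1 := by rw [hzz]; group)) (Subtype.ext hc) with h6 | h6
    · exfalso
      have h7 : d * KDone.K.z * d⁻¹ = 1 := congrArg Subtype.val h6
      have h8 : (zz : MG) = 1 := by
        calc (zz : MG) = d⁻¹ * (d * KDone.K.z * d⁻¹) * d := by group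
          _ = 1 := by rw [h7]; group
      exact Cfsg.Agent.BpSpor.MBigModel.zz_ne h8
    · exact congrArg Subtype.val h6
  · intro v hv hvy
    have h5 : g⁻¹ * v * g * (x' : MG) = (x' : MG) * (g⁻¹ * v * g) := by
      change g⁻¹ * v * g * (g⁻¹ * y * g) = g⁻¹ * y * g * (g⁻¹ * v * g)
      calc g⁻¹ * v * g * (g⁻¹ * y * g) = g⁻¹ * (v * y) * g := by group
        _ = g⁻¹ * (y * v) * g := by rw [hvy]
        _ = _ := by group
    have h6 : orderOf (g⁻¹ * v * g) = 2 := by
      rw [← hv]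
      have := Cfsg.Agent.H568.SC.Mon.conj_order (x := v) (g := g⁻¹)
      rwa [inv_inv] at this
    obtain ⟨k, hk⟩ := Cfsg.Agent.BpRankZero.isConj_of_one
      (MFive.orderOf_zD (KChart.chart KDone.lft MFive.Row.hc) x') hone
      (u := (⟨g⁻¹ * v * g, mem_centralizer_singleton_iff.2 h5⟩ : ↥(centralizer ({(x' : MG)} : Set MG))))
      (by rw [← Subgroup.orderOf_coe, h6])
    have hk' : (k : MG) * (g⁻¹ * v * g) * (k : MG)⁻¹ = zz := congrArg Subtype.val hk
    refine ⟨g * (k : MG)⁻¹, ?_⟩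
    rw [← hk']
    group

theorem not_ta_z (g : MG) : ¬ LThreeB.Row.TA (g * zz * g⁻¹) := by
  intro h
  have h1 := card_cent_t h
  rw [Cfsg.Agent.BpSpor.card_cent_of_conj (c := g) (u := zz) (v := g * zz * g⁻¹) rfl, card_cent_z] at h1
  norm_num at h1

theorem thirteen_not_dvd {x : MG} (hx : orderOf x = 41) : ¬ 13 ∣ Nat.card (centralizer ({x} : Set MG)) := by
  have := Cfsg.Agent.H444.FprM.finite
  obtain ⟨w, v, hw, hv, hvt, hvw⟩ := exists_w (q := 13) (by norm_num) (by norm_num)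
  refine kill (by norm_num) (by rw [card_M]; norm_num) hx (q := 13) (by norm_num) (by norm_num) (by norm_num)
    (pow_cond (m := 3) (by norm_num [n_m]) (by decide +kernel)) (fun y hy hxy => ?_) hw (not_dvd_w hv hvw ?_)
  · by_cases hz : NoZ y
    · exact nice_of_noZ hx hxy hz
    · unfold NoZ at hz
      push Not at hz
      obtain ⟨g, hg⟩ := hz
      exact nice_of_solIdx hx hxy (only_z13 hy hg).1
  · intro g hg
    obtain ⟨k, hk⟩ := (only_z13 hw hg).2 v hv hvw
    rw [← hk] at hvt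
    exact not_ta_z k hvt

/-! ### the prime 7 -/

theorem nice_seven {x y : MG} (hx : orderOf x = 41) (hy : orderOf y = 7) (hxy : x * y = y * x) :
    Nice 41 ↥(centralizer ({y} : Set MG)) := by
  have := Cfsg.Agent.H444.FprM.finite
  by_cases ho : Odd (Nat.card ↥(centralizer ({y} : Set MG)))
  · exact nice_of_solIdx hx hxy (SolIdx.of_solvable (by norm_num) (S0205.result ho))
  refine nice_of_solIdx hx hxy ?_
  obtain ⟨g, hg⟩ := MSevenT.hexOdd y hy ho
  have h1 : (g⁻¹ * y * g) * KDone.K.z = KDone.K.z * (g⁻¹ * y * g) := by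
    calc (g⁻¹ * y * g) * KDone.K.z = g⁻¹ * (y * (g * KDone.K.z * g⁻¹)) * g := by group
      _ = g⁻¹ * ((g * KDone.K.z * g⁻¹) * y) * g := by rw [hg]
      _ = KDone.K.z * (g⁻¹ * y * g) := by group
  let x' : centralizer ({KDone.K.z} : Set MG) := ⟨g⁻¹ * y * g, mem_centralizer_singleton_iff.2 h1⟩
  have h3 : g * (x' : MG) * g⁻¹ = y := by
    change g * (g⁻¹ * y * g) * g⁻¹ = y
    group
  have hx' : orderOf x' = 7 := by
    rw [← Subgroup.orderOf_coe, ← hy, ← h3]
    exact (orderOf_injective (MulAut.conj g).toMonoidHom (MulAut.conj g).injective (x' : MG)).symm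
  obtain ⟨⟨e⟩, -⟩ := exists_XX_equiv h3
  have h := KChart.chart KDone.lft MFive.Row.hc
  refine SolIdx.congr ?_ e
  rcases CpAutMSeven.Ranks.hranks _ (MFive.orderOf_pi h (by norm_num) (by decide) hx') with hf | hf
  · have hone := BpRankZero.Seven.only_zD KDone.lft MFive.Row.hc (x := x') (by rw [← hx', pow_orderOf_eq_one]) hf
    have hzz : (zz : MG) * zz = 1 := Cfsg.Agent.BpSpor.MBigModel.zz_sq
    refine Cfsg.Agent.H291.SCMon.zero_of h (by norm_num) ?_
    intro d hd hc
    have h5 : d * KDone.K.z * d⁻¹ * (x' : MG) = (x' : MG) * (d * KDone.K.z * d⁻¹) := by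
      have hxz : (x' : MG) * KDone.K.z = KDone.K.z * x' := mem_centralizer_singleton_iff.1 x'.2
      have hdi : d⁻¹ * (x' : MG) = x' * d⁻¹ := by
        rw [inv_mul_eq_iff_eq_mul, ← mul_assoc, hd, mul_inv_cancel_right]
      calc d * KDone.K.z * d⁻¹ * (x' : MG) = d * KDone.K.z * (x' * d⁻¹) := by rw [mul_assoc, hdi]
        _ = d * (KDone.K.z * x') * d⁻¹ := by group
        _ = d * (x' * KDone.K.z) * d⁻¹ := by rw [hxz]
        _ = (d * x') * KDone.K.z * d⁻¹ := by group
        _ = (x' * d) * KDone.K.z * d⁻¹ := by rw [hd]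
        _ = _ := by group
    rcases hone ⟨d * KDone.K.z * d⁻¹, mem_centralizer_singleton_iff.2 h5⟩ (Subtype.ext (by
        change d * KDone.K.z * d⁻¹ * (d * KDone.K.z * d⁻¹) = 1
        calc d * KDone.K.z * d⁻¹ * (d * KDone.K.z * d⁻¹) = d * (zz * zz) * d⁻¹ := by group
          _ = 1 := by rw [hzz]; group)) (Subtype.ext hc) with h6 | h6
    · exfalso
      have h7 : d * KDone.K.z * d⁻¹ = 1 := congrArg Subtype.val h6
      have h8 : (zz : MG) = 1 := by
        calc (zz : MG) = d⁻¹ * (d * KDone.K.z * d⁻¹) * d := by group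
          _ = 1 := by rw [h7]; group
      exact Cfsg.Agent.BpSpor.MBigModel.zz_ne h8
    · exact congrArg Subtype.val h6
  · refine SolIdx.of_XX (by norm_num) (by rw [Subgroup.orderOf_coe, hx']; norm_num) ?_
    rw [(BpRankZero.MRow.he_facts (CpAutMSeven.ZeroComps.heSix x' hx' hf)).2]
    norm_num

theorem seven_not_dvd {x : MG} (hx : orderOf x = 41) : ¬ 7 ∣ Nat.card (centralizer ({x} : Set MG)) := by
  have := Cfsg.Agent.H444.FprM.finite
  obtain ⟨r, hr, hfr⟩ := BpRankZero.MRow.exists_six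
  refine kill (by norm_num) (by rw [card_M]; norm_num) hx (q := 7) (by norm_num) (by norm_num) (by norm_num)
    (pow_cond (m := 6) (by norm_num [n_m]) (by decide +kernel)) (fun y hy hxy => nice_seven hx hy hxy)
    (w := (r : MG)) (by rw [Subgroup.orderOf_coe, hr]) ?_
  rw [BpRankZero.Seven.card_cent, (BpRankZero.MRow.he_facts (CpAutMSeven.ZeroComps.heSix r hr hfr)).2,
    Subgroup.orderOf_coe, hr]
  norm_num

/-! ### the row -/

theorem three_pow_not_dvd {x : MG} (hx : orderOf x = 41) : ¬ 3 ^ 20 ∣ Nat.card (centralizer ({x} : Set MG)) := by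
  have := Cfsg.Agent.H444.FprM.finite
  intro h3
  obtain ⟨u, y, hu, hy, huy, hyc⟩ := H149.Sp.exists_m
  have h4 : ¬ 3 ∣ (centralizer ({x} : Set MG)).index := by
    intro h5
    have h7 : 3 ^ 20 * 3 ∣ Nat.card MG := by
      have := Nat.mul_dvd_mul h3 h5
      rwa [(centralizer ({x} : Set MG)).card_mul_index] at this
    rw [card_M] at h7
    exact absurd h7 (by norm_num)
  obtain ⟨g, hg⟩ := Cfsg.Agent.H568.TriPair.exists_conj_comm Nat.prime_three h4 (k := 1) (hy.trans (pow_one 3).symm)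
  have h8 : 41 ∣ Nat.card (centralizer ({y} : Set MG)) := by
    have h9 : (g⁻¹ * x * g) * y = y * (g⁻¹ * x * g) := by
      calc g⁻¹ * x * g * y = g⁻¹ * (x * (g * y * g⁻¹)) * g := by group
        _ = g⁻¹ * ((g * y * g⁻¹) * x) * g := by rw [hg]
        _ = y * (g⁻¹ * x * g) := by group
    have h10 : orderOf (g⁻¹ * x * g) = 41 := by
      rw [← hx]
      have := Cfsg.Agent.H568.SC.Mon.conj_order (x := x) (g := g⁻¹)
      rwa [inv_inv] at this
    rw [← h10]
    exact dvd_of_comm h9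
  rw [hyc] at h8
  exact absurd h8 (by norm_num)

theorem fiftynine_not_dvd (B : Base) {x : MG} (hx : orderOf x = 41) :
    ¬ 59 ∣ Nat.card (centralizer ({x} : Set MG)) := by
  have := Cfsg.Agent.H444.FprM.finite
  have hf : Fact (Nat.Prime 59) := ⟨by norm_num⟩
  intro h
  obtain ⟨v, hv⟩ := exists_prime_orderOf_dvd_card' 59 h
  have hvo : orderOf (v : MG) = 59 := by rw [Subgroup.orderOf_coe, hv]
  have h1 := Cfsg.Agent.H568.SC.Mon.sc_model (allKnown B) (v : MG) hvo
  have h2 : 41 ∣ Nat.card (centralizer ({(v : MG)} : Set MG)) :=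
    hx ▸ dvd_of_comm (mem_centralizer_singleton_iff.1 v.2).symm
  rw [h1] at h2
  exact absurd h2 (by norm_num)

theorem cent_41 (B : Base) {x : MG} (hx : orderOf x = 41) :
    Nat.card (centralizer ({x} : Set MG)) ∣ 3 ^ 19 * (5 ^ 9 * 11 ^ 2 * 23 * 29 * 41 * 71) := by
  have := Cfsg.Agent.H444.FprM.finite
  set c := Nat.card (centralizer ({x} : Set MG)) with hc
  have cop : ∀ {q k : ℕ}, q.Prime → ¬ q ∣ c → Nat.Coprime c (q ^ k) := fun {q k} hq h =>
    ((Nat.Coprime.pow_left k ((Nat.Prime.coprime_iff_not_dvd hq).2 h))).symm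
  have h1 : c ∣ 2 ^ 46 * (7 ^ 6 * (13 ^ 3 * (17 ^ 1 * (19 ^ 1 * (31 ^ 1 * (47 ^ 1 * (59 ^ 1 *
      (3 ^ 20 * (5 ^ 9 * 11 ^ 2 * 23 * 29 * 41 * 71))))))))) := by
    refine (card_subgroup_dvd_card _).trans ?_
    rw [card_M]
    norm_num
  have h2 := (cop (k := 46) Nat.prime_two (two_not_dvd (by norm_num) (by norm_num) hx)).dvd_of_dvd_mul_left h1
  have h3 := (cop (k := 6) (q := 7) (by norm_num) (seven_not_dvd hx)).dvd_of_dvd_mul_left h2
  have h4 := (cop (k := 3) (q := 13) (by norm_num) (thirteen_not_dvd hx)).dvd_of_dvd_mul_left h3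
  have h5 := (cop (k := 1) (q := 17) (by norm_num) (kill_q (by norm_num) (by norm_num) (by norm_num)
    (pow_cond (m := 1) (by norm_num [n_m]) (by decide +kernel)) (by norm_num) (by norm_num) hx)).dvd_of_dvd_mul_left h4
  have h6 := (cop (k := 1) (q := 19) (by norm_num) (kill_q (by norm_num) (by norm_num) (by norm_num)
    (pow_cond (m := 1) (by norm_num [n_m]) (by decide +kernel)) (by norm_num) (by norm_num) hx)).dvd_of_dvd_mul_left h5
  have h7 := (cop (k := 1) (q := 31) (by norm_num) (kill_q (by norm_num) (by norm_num) (by norm_num)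
    (pow_cond (m := 1) (by norm_num [n_m]) (by decide +kernel)) (by norm_num) (by norm_num) hx)).dvd_of_dvd_mul_left h6
  have h8 := (cop (k := 1) (q := 47) (by norm_num) (kill_q (by norm_num) (by norm_num) (by norm_num)
    (pow_cond (m := 1) (by norm_num [n_m]) (by decide +kernel)) (by norm_num) (by norm_num) hx)).dvd_of_dvd_mul_left h7
  have h9 := (cop (k := 1) (q := 59) (by norm_num) (fiftynine_not_dvd B hx)).dvd_of_dvd_mul_left h8
  obtain ⟨a, b, ha, hb, hab⟩ := Nat.dvd_mul.1 h9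
  obtain ⟨i, hi, rfl⟩ := (Nat.dvd_prime_pow Nat.prime_three).1 ha
  rw [← hab]
  refine Nat.mul_dvd_mul (pow_dvd_pow 3 ?_) hb
  by_contra hlt
  have h20 : i = 20 := by omega
  rw [h20] at hab
  exact three_pow_not_dvd hx (Dvd.intro b hab)

theorem norm_41 (B : Base) (x : MG) (hx : orderOf x = 41) :
    Nat.card (normalizer ((zpowers x : Subgroup MG) : Set MG)) ∣ 21332771408451481171875000 := by
  have := Cfsg.Agent.H444.FprM.finite
  refine (card_normalizer_dvd (by norm_num) hx).trans ((Nat.mul_dvd_mul_right (cent_41 B hx) 40).trans ?_)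
  norm_num

/-- **Row `M`, `p = 41`.** -/
theorem row41 (B : Base) : FprRow 42 1 41 MG := by
  have := Cfsg.Agent.H444.FprM.finite
  exact row_of_list (p := 41) (by norm_num) card_MG v_m (by norm_num [n_m]) (by norm_num [n_m])
    (NB := 21332771408451481171875000) (by norm_num) (norm_41 B)
    (L := [(41, 1, 47330370277129322496), (34440, 20, 47330370277129322496), (265680, 2, 47330370277129322496),
      (32537600, 4, 45137758519296), (1073740800, 50, 45137758519296), (1721606400, 4, 6879707136),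
      (10151968619520, 4, 6879707136), (50759843097600, 20, 6879707136), (53443952640000, 5, 45137758519296),
      (65784756654489600, 8, 1048576), (1120527288631296000000, 2, 43046721), (1289512799941305139200, 360, 1048576)])
    (list_of_ords card_MG (ords_m B) (by decide +kernel) (by decide +kernel)) (by decide +kernel)

end Cfsg.Agent.H438.Fpr.Mon
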