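import Cfsg.Agent.H493.Sep.LyData

/-!
# The Lyons group: `|C(x)| = 31`, `|N(⟨x⟩)| = 186` for `x` of order 31 (helper438)

`N(⟨x⟩)` is in `G₂(5) ≤ GL₇(5)`, `x` has a cyclic vector, so every `y` commuting with `x` is a polynomial in `x` and
`y ^ 125 = y`.
-/

set_option autoImplicit false
set_option maxRecDepth 100000

namespace Cfsg.Agent.H438.Fpr.Ly

open Subgroup Matrix Polynomial

section cyclic

variable {n : ℕ}

theorem col_eq {F : Type*} [CommRing F] (A K : Matrix (Fin (n + 1)) (Fin (n + 1)) F)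
    (h : ∀ (i : Fin (n + 1)) (j : Fin n), (A * K) i j.castSucc = K i j.succ) :
    ∀ j : Fin (n + 1), (fun i => K i j) = A ^ (j : ℕ) *ᵥ (fun i => K i 0) := by
  intro j
  induction j using Fin.induction with
  | zero => simp
  | succ j ih =>
    have h1 : (fun i => K i j.succ) = A *ᵥ (fun i => K i j.castSucc) := by
      funext i
      rw [← h i j]
      rfl
    rw [h1, ih, Matrix.mulVec_mulVec, Fin.val_succ, pow_succ', Fin.val_castSucc]

/-- **commuting with a cyclic matrix** -/
theorem pow_of_cyclic (A Y K K' : Matrix (Fin (n + 1)) (Fin (n + 1)) (ZMod 5))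
    (h : ∀ (i : Fin (n + 1)) (j : Fin n), (A * K) i j.castSucc = K i j.succ) (hK : K * K' = 1)
    (hA : A ^ 125 = A) (hY : Y * A = A * Y) : Y ^ 125 = Y := by
  have : Fact (Nat.Prime 5) := ⟨by norm_num⟩
  set v : Fin (n + 1) → ZMod 5 := fun i => K i 0 with hv
  set c : Fin (n + 1) → ZMod 5 := K' *ᵥ (Y *ᵥ v) with hc
  have hcol := col_eq A K h
  set P : (ZMod 5)[X] := ∑ j : Fin (n + 1), C (c j) * X ^ (j : ℕ) with hP
  have hPe : aeval A P = ∑ j : Fin (n + 1), c j • A ^ (j : ℕ) := by
    rw [hP, map_sum]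
    refine Finset.sum_congr rfl fun j _ => ?_
    rw [map_mul, aeval_C, map_pow, aeval_X, Algebra.smul_def]
  have hPv : aeval A P *ᵥ v = Y *ᵥ v := by
    have h1 : aeval A P *ᵥ v = K *ᵥ c := by
      rw [hPe, Matrix.sum_mulVec]
      funext i
      rw [Finset.sum_apply]
      change _ = ∑ j, K i j * c j
      refine Finset.sum_congr rfl fun j _ => ?_
      rw [Matrix.smul_mulVec, ← hcol j, Pi.smul_apply, smul_eq_mul, mul_comm]
    rw [h1, hc, Matrix.mulVec_mulVec, hK, Matrix.one_mulVec]
  have hcA : ∀ j : ℕ, Commute (A ^ j) Y := fun j => (Commute.pow_left (show Commute A Y from hY.symm) j)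
  have hcP : ∀ j : ℕ, Commute (A ^ j) (aeval A P) := fun j => by
    have h1 : Commute A (aeval A P) := by
      have h2 : A = aeval A (X : (ZMod 5)[X]) := (aeval_X A).symm
      have h3 : aeval A (X : (ZMod 5)[X]) * aeval A P = aeval A P * aeval A (X : (ZMod 5)[X]) := by
        rw [← map_mul, ← map_mul, mul_comm]
      rw [aeval_X] at h3
      exact h3
    exact h1.pow_left j
  have hYK : Y * K = aeval A P * K := by
    ext i j
    have h1 : ∀ M : Matrix (Fin (n + 1)) (Fin (n + 1)) (ZMod 5), (M * K) i j = (M *ᵥ (fun i => K i j)) i := fun M => rfl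
    rw [h1, h1, hcol j, Matrix.mulVec_mulVec, Matrix.mulVec_mulVec, ← (hcA j).eq, ← (hcP j).eq, ← Matrix.mulVec_mulVec,
      ← Matrix.mulVec_mulVec, hPv]
  have hYP : Y = aeval A P := by
    have h1 := congrArg (· * K') hYK
    simp only [Matrix.mul_assoc, hK, Matrix.mul_one] at h1
    exact h1
  have key : ∀ (B : Matrix (Fin (n + 1)) (Fin (n + 1)) (ZMod 5)), (aeval B P) ^ 5 = aeval (B ^ 5) P := by
    intro B
    rw [← map_pow, ← ZMod.expand_card, expand_aeval]
  rw [hYP]
  have h1 : (aeval A P) ^ 125 = aeval (((A ^ 5) ^ 5) ^ 5) P := by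
    rw [← key, ← key, ← key, ← pow_mul, ← pow_mul]
  rw [h1, ← pow_mul, ← pow_mul, hA]

end cyclic

/-! ### the element of order 31 -/

open Cfsg.Agent.Ly.Mat7 Cfsg.Agent.Ly.Cover Cfsg.Agent.Ly.Upper Cfsg.Agent.Lib.PackMat

def XA : ℕ := 0x4000200010000000100020002000300040001000400030002000300040001000200040002000000000001000100020000000300000000000300000002000100020000000000040004000000000000000000000004000100000000000000000000
def KN : ℕ := 0x3000000040000000000040001000100000000000100010003000000010002000400000002000400000000000200020001000400010000000000020000000200020003000000000001000400040003000400000000000100010001000400040000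
def KI : ℕ := 0x100000004000400010003000000030002000000000000000200000003000200030001000300000000000000000000000300020002000000040001000400020004000200000002000300040002000100010001000200000000000100010002

theorem XA_ok : Ok XA := okN_spec (by decide +kernel)
theorem KN_ok : Ok KN := okN_spec (by decide +kernel)
theorem KI_ok : Ok KI := okN_spec (by decide +kernel)

theorem eval_g : evalK [0, 3, 2] oneN = XA := by decide +kernel

theorem toM_g : ((ev gen [0, 3, 2] : GL (Fin 7) (ZMod 5)) : Matrix (Fin 7) (Fin 7) (ZMod 5)) = toM XA := by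
  have h : toM (evalK [0, 3, 2] oneN) = toM oneN * (ev gen [0, 3, 2] : GL (Fin 7) (ZMod 5)) :=
    (evalK_spec [0, 3, 2] oneN_ok).2
  have h1 : toM oneN * (ev gen [0, 3, 2] : GL (Fin 7) (ZMod 5)) = (ev gen [0, 3, 2] : GL (Fin 7) (ZMod 5)) :=
    (congrArg (fun M => M * ((ev gen [0, 3, 2] : GL (Fin 7) (ZMod 5)) : Matrix (Fin 7) (Fin 7) (ZMod 5))) toM_oneN).trans
      (Matrix.one_mul _)
  exact (h1.symm.trans h.symm).trans (congrArg toM eval_g)

theorem KK : toM KN * toM KI = 1 := by
  rw [← toM_mulN KN_ok KI_ok, show mulN KN KI = oneN by decide +kernel, toM_oneN]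

theorem col_chk : ∀ (i : Fin 7) (j : Fin 6), (dg 16 (mulN XA KN) (7 * i + j) == dg 16 KN (7 * i + (j + 1))) = true := by
  decide +kernel

theorem cols (i : Fin 7) (j : Fin 6) : (toM XA * toM KN) i j.castSucc = toM KN i j.succ := by
  rw [← toM_mulN XA_ok KN_ok]
  have h := col_chk i j
  rw [beq_iff_eq] at h
  unfold toM
  rw [Fin.val_castSucc, h, Fin.val_succ]

theorem pow31 : (ev gen [0, 3, 2] : GL (Fin 7) (ZMod 5)) ^ 31 = 1 := by
  have h : ev gen ((List.replicate 31 [0, 3, 2]).flatten) = ev gen [] := word_eq (by decide +kernel)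
  rw [ev_nil] at h
  rw [← h]
  have key : ∀ n : ℕ, ev gen ((List.replicate n [0, 3, 2]).flatten) = (ev gen [0, 3, 2] : GL (Fin 7) (ZMod 5)) ^ n := by
    intro n
    induction n with
    | zero => simp [ev_nil]
    | succ n ih => rw [List.replicate_succ, List.flatten_cons, ev_append, ih, pow_succ']
  exact (key 31).symm

theorem ne_one : (ev gen [0, 3, 2] : GL (Fin 7) (ZMod 5)) ≠ 1 := by
  intro h
  have h1 := toM_g
  rw [h, Units.val_one] at h1
  have h2 := congrFun (congrFun h1 0) 5
  revert h2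
  unfold toM
  decide +kernel

/-- **commuting with the element of order 31** -/
theorem pow_of_comm {y : GL (Fin 7) (ZMod 5)} (h : y * ev gen [0, 3, 2] = ev gen [0, 3, 2] * y) : y ^ 124 = 1 := by
  have h1 : (ev gen [0, 3, 2] : GL (Fin 7) (ZMod 5)) ^ 125 = ev gen [0, 3, 2] := by
    rw [show 125 = 31 * 4 + 1 by norm_num, pow_succ, pow_mul, pow31, one_pow, one_mul]
  have h2 := congrArg (fun z : GL (Fin 7) (ZMod 5) => (z : Matrix (Fin 7) (Fin 7) (ZMod 5))) h1
  have h3 := congrArg (fun z : GL (Fin 7) (ZMod 5) => (z : Matrix (Fin 7) (Fin 7) (ZMod 5))) h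
  simp only [Units.val_pow_eq_pow_val, Units.val_mul, toM_g] at h2 h3
  have h4 := pow_of_cyclic (toM XA) (y : Matrix (Fin 7) (Fin 7) (ZMod 5)) (toM KN) (toM KI) cols KK h2 h3
  have h5 : y ^ 125 = y := Units.ext (by rw [Units.val_pow_eq_pow_val]; exact h4)
  rw [pow_succ] at h5
  exact mul_eq_right.1 h5

/-! ### the centralizer -/

open Cfsg.Agent.OrdDiv Cfsg.Agent.H940 Cfsg.Agent.H940.Eng Cfsg.Agent.H940.Eng.D Cfsg.Agent.H493.Sep.LyLoc

instance instFinG : Finite G := fin
instance instSimpleG : IsSimpleGroup G := simple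

theorem exists_elt : ∃ g : Hhat, g ^ 31 = 1 ∧ g ≠ 1 ∧ ∀ y : Hhat, y * g = g * y → y ^ 124 = 1 := by
  have key : ∀ g : GL (Fin 7) (ZMod 5), g ∈ Hhat → g ^ 31 = 1 → g ≠ 1 →
      (∀ y : GL (Fin 7) (ZMod 5), y * g = g * y → y ^ 124 = 1) →
      ∃ g : Hhat, g ^ 31 = 1 ∧ g ≠ 1 ∧ ∀ y : Hhat, y * g = g * y → y ^ 124 = 1 := by
    intro g hg h1 h2 h3
    refine ⟨⟨g, hg⟩, Subtype.ext h1, fun h => h2 (congrArg Subtype.val h), fun y hy => ?_⟩
    exact Subtype.ext (h3 y (congrArg Subtype.val hy))
  exact key _ (ev_mem_Hhat [0, 3, 2]) pow31 ne_one fun y hy => pow_of_comm hy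

theorem cent31 {R : Subgroup G} (hR : Nat.card R = 31) : Nat.card (centralizer (R : Set G)) = 31 := by
  have h31 : Fact (Nat.Prime 31) := ⟨by norm_num⟩
  -- the element
  obtain ⟨g, hg31, hg1, hgc⟩ := exists_elt
  have hgo : orderOf g = 31 := orderOf_eq_prime hg31 hg1
  set x : G := Cfsg.Agent.Ly.Setup.psi g with hx
  have hxo : orderOf x = 31 := by rw [hx, orderOf_injective _ Cfsg.Agent.Ly.Setup.psi_injective, hgo]
  set R0 : Subgroup G := zpowers x with hR0
  have hR0c : Nat.card R0 = 31 := by rw [hR0, Nat.card_zpowers, hxo]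
  have hR0H : R0 ≤ H := by rw [hR0, zpowers_le]; exact ⟨g, rfl⟩
  have hN := normalizer_le hR0c hR0H
  rw [H904.SylOne.card_centralizer_eq hR hR0c (not_sq (r := 31) (by decide +kernel))]
  have hexp : ∀ y ∈ centralizer (R0 : Set G), y ^ 124 = 1 := by
    intro y hy
    obtain ⟨y', hy'⟩ : y ∈ H := hN (Subgroup.centralizer_le_normalizer (R0 : Set G) hy)
    have h1 : y * x = x * y := (mem_centralizer_iff.1 hy x (mem_zpowers x)).symm
    have h2 : y' * g = g * y' := by
      apply Cfsg.Agent.Ly.Setup.psi_injective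
      rw [map_mul, map_mul, hy']
      exact h1
    rw [← hy', ← map_pow, hgc y' h2, map_one]
  have hd : Nat.card (centralizer (R0 : Set G)) ∣ 91546875 := (data31 hR0c).1
  have hno : ∀ r : ℕ, r.Prime → ¬ r ∣ 124 → ¬ r ∣ Nat.card (centralizer (R0 : Set G)) := by
    intro r hr h124 hrd
    have := Fact.mk hr
    obtain ⟨y, hy⟩ := exists_prime_orderOf_dvd_card' (G := centralizer (R0 : Set G)) r hrd
    apply h124
    rw [← hy, ← Subgroup.orderOf_coe]
    exact orderOf_dvd_of_pow_eq_one (hexp y y.2)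
  have h3 := hno 3 (by norm_num) (by norm_num)
  have h5 := hno 5 (by norm_num) (by norm_num)
  have h7 := hno 7 (by norm_num) (by norm_num)
  have h31d : 31 ∣ Nat.card (centralizer (R0 : Set G)) := by
    rw [← hR0c]
    refine card_dvd_of_le ?_
    rw [le_centralizer_iff_isMulCommutative]
    infer_instance
  apply Nat.dvd_antisymm _ h31d
  have c3 : Nat.Coprime (Nat.card (centralizer (R0 : Set G))) (3 ^ 3) :=
    Nat.Coprime.pow_right 3 ((Nat.Prime.coprime_iff_not_dvd (by norm_num)).2 h3).symm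
  have c5 : Nat.Coprime (Nat.card (centralizer (R0 : Set G))) (5 ^ 6) :=
    Nat.Coprime.pow_right 6 ((Nat.Prime.coprime_iff_not_dvd (by norm_num)).2 h5).symm
  have c7 : Nat.Coprime (Nat.card (centralizer (R0 : Set G))) 7 :=
    ((Nat.Prime.coprime_iff_not_dvd (by norm_num)).2 h7).symm
  have h8 : (91546875 : ℕ) = 3 ^ 3 * (5 ^ 6 * (7 * 31)) := by norm_num
  rw [h8] at hd
  exact c7.dvd_of_dvd_mul_left (c5.dvd_of_dvd_mul_left (c3.dvd_of_dvd_mul_left hd))

/-- **the local data at 31** -/
theorem cn31 {R : Subgroup G} (hR : Nat.card R = 31) : Nat.card (centralizer (R : Set G)) = 31 ∧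
    Nat.card (normalizer (R : Set G)) = 186 := by
  have h1 := cnP_sound na card (r := 31) (fC := [(31, 1)]) (by decide +kernel) (by decide +kernel) (by decide +kernel) hR
    (by rw [cent31 hR]; decide +kernel) (P := fun c m => c != 31 || m == 186) (by decide +kernel) hR
  rw [cent31 hR] at h1
  simp only [bne_self_eq_false, Bool.false_or, beq_iff_eq] at h1
  exact ⟨cent31 hR, h1⟩

end Cfsg.Agent.H438.Fpr.Ly
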