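import Cfsg.Agent.H438.Fpr.LyA
import Cfsg.Agent.H493.Sep.RowLy
import Cfsg.Agent.H715.Fpr.Row2
import Cfsg.Agent.H124.Cop.SCLy

/-!
# Fixed point ratios: `Ly`, primes 2, 3, 11, 31, 37, 67 (helper438)
-/

set_option autoImplicit false

namespace Cfsg.Agent.H438.Fpr.Ly

open Subgroup Cfsg.Agent.H409 Cfsg.Agent.OrdDiv Cfsg.Agent.H940.Eng Cfsg.Agent.H940.Eng.D Cfsg.Agent.H715.Fpr
  Cfsg.Agent.H493.Sep.LyLoc

/-- the local data -/
def loc : List LD := [⟨67, 737, [(2, 1), (11, 1), (67, 1)]⟩, ⟨37, 333, [(2, 1), (3, 2), (37, 1)]⟩,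
  ⟨31, 31, [(2, 1), (3, 1), (31, 1)]⟩]

theorem loc31' : Loc G ⟨31, 31, [(2, 1), (3, 1), (31, 1)]⟩ := by
  refine loc_of_eq card (by decide +kernel) (by decide +kernel) (by decide +kernel) fun R hR => ?_
  obtain ⟨h1, h2⟩ := cn31 hR
  rw [h1, h2]
  decide

theorem ctx (B : Base) : Ctx G l_ly n_ly o_ly loc where
  fin := fin
  simple := simple
  card := card
  val := v_ly
  nodup := nd_ly
  ords := ords_ly B
  loc := by
    intro ld hld
    simp only [loc, List.mem_cons, List.not_mem_nil, or_false] at hld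
    rcases hld with rfl | rfl | rfl
    · exact loc67 B
    · exact loc37 B
    · exact loc31'

theorem row2 (B : Base) : FprRow 3 1 2 G :=
  row_of_act2 (ctx B) (q := 31) (N := 186) (by decide +kernel) (by decide +kernel) (by decide +kernel)
    (acts_of card (by decide +kernel) (by decide +kernel) (by decide +kernel) (fun _ hR => cn31 hR) 1
      (by decide +kernel))
    (fun _ hR => (cn31 hR).2.le) 20 0 lb_zero 0 (by decide +kernel)

theorem row3 (B : Base) : FprRow 4 1 3 G :=
  row_of_act2 (ctx B) (q := 31) (N := 186) (by decide +kernel) (by decide +kernel) (by decide +kernel)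
    (acts_of card (by decide +kernel) (by decide +kernel) (by decide +kernel) (fun _ hR => cn31 hR) 1
      (by decide +kernel))
    (fun _ hR => (cn31 hR).2.le) 27 0 lb_zero 0 (by decide +kernel)

theorem row31 (B : Base) : FprRow 32 1 31 G :=
  row_of_norm2 (ctx B) (by decide +kernel) (fun _ hR => (cn31 hR).2.le) 192 0 lb_zero 0 (by decide +kernel)

theorem norm37 (B : Base) {R : Subgroup G} (hR : Nat.card R = 37) : Nat.card (normalizer (R : Set G)) ≤ 666 :=
  Nat.le_of_dvd (by norm_num) (((loc37 B).2.2.2 R hR).2.trans (by decide +kernel))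

theorem norm67 (B : Base) {R : Subgroup G} (hR : Nat.card R = 67) : Nat.card (normalizer (R : Set G)) ≤ 1474 :=
  Nat.le_of_dvd (by norm_num) (((loc67 B).2.2.2 R hR).2.trans (by decide +kernel))

theorem row37 (B : Base) : FprRow 38 1 37 G :=
  row_of_norm2 (ctx B) (by decide +kernel) (fun _ hR => norm37 B hR) 684 0 lb_zero 0 (by decide +kernel)

theorem row67 (B : Base) : FprRow 68 1 67 G :=
  row_of_norm2 (ctx B) (by decide +kernel) (fun _ hR => norm67 B hR) 1496 0 lb_zero 0 (by decide +kernel)

/-- **the local data at 67** -/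
theorem cn67 (B : Base) {R : Subgroup G} (hR : Nat.card R = 67) : Nat.card (centralizer (R : Set G)) = 67 ∧
    Nat.card (normalizer (R : Set G)) = 1474 := by
  have h1 : Nat.card (centralizer (R : Set G)) = 67 := by
    obtain ⟨w, hw, rfl⟩ := eq_zpowers' (by norm_num) hR
    obtain ⟨L⟩ := exists_mt
    rw [cent_zpowers']
    exact Cfsg.Agent.H124.Cop.SCLy.main (fun S _ _ _ => B.known S inferInstance) L hw
  have h2 := cnP_sound na card (r := 67) (fC := [(67, 1)]) (by decide +kernel) (by decide +kernel) (by decide +kernel) hR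
    (by rw [h1]; decide +kernel) (P := fun c m => c != 67 || m == 1474) (by decide +kernel) hR
  rw [h1] at h2
  simp only [bne_self_eq_false, Bool.false_or, beq_iff_eq] at h2
  exact ⟨h1, h2⟩

theorem row11 (B : Base) : FprRow 12 1 11 G :=
  row_of_act2 (ctx B) (q := 67) (N := 1474) (by decide +kernel) (by decide +kernel) (by decide +kernel)
    (acts_of card (by decide +kernel) (by decide +kernel) (by decide +kernel) (fun _ hR => cn67 B hR) 1
      (by decide +kernel))
    (fun _ hR => (cn67 B hR).2.le) 317 0 lb_zero 0 (by decide +kernel)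

end Cfsg.Agent.H438.Fpr.Ly
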