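import Cfsg.Agent.H438.Fpr.MonA
import Cfsg.Agent.H438.Fpr.LemB
import Cfsg.Agent.H438.Fpr.SylList
import Cfsg.Agent.H713.Spor.MOf
import Cfsg.Agent.H149.Sp.Monster
import Cfsg.Agent.OrdDiv.Table

/-!
# Fixed point ratios in the Monster, `p = 71` (helper438)
-/

set_option autoImplicit false
set_option maxRecDepth 100000

namespace Cfsg.Agent.H438.Fpr.Mon

open Subgroup MulAction Cfsg Cfsg.Agent.H409 Cfsg.Agent.H940.Eng Cfsg.Agent.H715.Fpr Cfsg.Agent.H444.FprM
open Cfsg.Agent.H940.Eng.D Cfsg.Agent.OrdDiv Cfsg.Agent.H438.Fpr.SylIdx Cfsg.Agent.H438.Fpr.LemB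

universe u

/-- the order of the Monster -/
theorem card_MG : Nat.card MG = n_m := card_M

/-- the centralizers of the involutions -/
theorem inv_not_dvd {p : ℕ} (h1 : ¬ p ∣ 2 ^ 25 * 4157776806543360000) (h2 : ¬ p ∣ 2 * 4154781481226426191177580544000000)
    (t : MG) (ht : orderOf t = 2) : ¬ p ∣ Nat.card (centralizer ({t} : Set MG)) := by
  intro h
  have h3 := Cfsg.Agent.H713.Spor.MOf.card_cent Cfsg.Agent.MonsterU.Uncond.all t ht
  simp only [List.mem_cons, List.not_mem_nil, or_false] at h3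
  rcases h3 with h3 | h3 <;> rw [h3] at h
  · exact h1 h
  · exact h2 h

/-- no involution commutes with `x` -/
theorem two_not_dvd {p : ℕ} (h1 : ¬ p ∣ 2 ^ 25 * 4157776806543360000) (h2 : ¬ p ∣ 2 * 4154781481226426191177580544000000)
    {x : MG} (hx : orderOf x = p) : ¬ 2 ∣ Nat.card (centralizer ({x} : Set MG)) := by
  have := Cfsg.Agent.H444.FprM.finite
  intro h
  have h2f : Fact (Nat.Prime 2) := ⟨Nat.prime_two⟩
  obtain ⟨t, ht⟩ := exists_prime_orderOf_dvd_card' 2 h
  have hto : orderOf (t : MG) = 2 := by rw [Subgroup.orderOf_coe, ht]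
  refine inv_not_dvd h1 h2 (t : MG) hto ?_
  have h3 : x ∈ centralizer ({(t : MG)} : Set MG) :=
    mem_centralizer_singleton_iff.2 (mem_centralizer_singleton_iff.1 t.2).symm
  rw [← hx, ← Subgroup.orderOf_mk x h3]
  exact orderOf_dvd_natCard _

/-- the normalizer from the centralizer -/
theorem card_normalizer_dvd {G : Type u} [Group G] [Finite G] {p : ℕ} (hp : p.Prime) {x : G} (hx : orderOf x = p) :
    Nat.card (normalizer ((zpowers x : Subgroup G) : Set G)) ∣ Nat.card (centralizer ({x} : Set G)) * (p - 1) := by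
  have h11 := Cfsg.Agent.H995.CopEngine.relIndex_centralizer_dvd hp (zpowers x) (by rw [Nat.card_zpowers, hx])
  have hle : centralizer (zpowers x : Set G) ≤ normalizer (zpowers x : Set G) := centralizer_le_normalizer _
  have h12 := Subgroup.relIndex_mul_relIndex ⊥ (centralizer (zpowers x : Set G)) (normalizer (zpowers x : Set G)) bot_le hle
  rw [relIndex_bot_left, relIndex_bot_left] at h12
  rw [← h12]
  refine Nat.mul_dvd_mul (card_dvd_of_le fun g hg => ?_) h11
  rw [mem_centralizer_singleton_iff]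
  exact (mem_centralizer_iff.1 hg x (mem_zpowers x)).symm

/-- the list from the orders -/
theorem list_of_ords {G : Type} [Group G] [Finite G] {n p : ℕ} (hn : Nat.card G = n) {o : List ℕ}
    (ho : Ords.{0} n o) {L : List (ℕ × ℕ × ℕ)} (h1 : (L.any fun x => Nat.beq x.1 p) = true)
    (h2 : (o.all fun s => s % p != 0 || Nat.beq s n || L.any fun x => Nat.beq x.1 s) = true) :
    ∀ (H : Subgroup G), H ≠ ⊤ → ∀ s : ℕ, (s = p ∨ ∃ (S : Type) (_ : Group S) (_ : Finite S),
      IsSimpleGroup S ∧ (¬ ∀ a b : S, a * b = b * a) ∧ Nat.card S = s) → s ∣ Nat.card H → p ∣ s → ∃ x ∈ L, x.1 = s := by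
  have key : ∀ s, (L.any fun x => Nat.beq x.1 s) = true → ∃ x ∈ L, x.1 = s := by
    intro s hs
    obtain ⟨x, hx, hxs⟩ := List.any_eq_true.1 hs
    exact ⟨x, hx, Nat.eq_of_beq_eq_true hxs⟩
  intro H hH s hs hsH hps
  rcases hs with rfl | ⟨S, _, _, hSs, hna, hSc⟩
  · exact key _ h1
  · have h3 := ho S hSs hna (by rw [hSc, ← hn]; exact hsH.trans (card_subgroup_dvd_card H))
    rw [hSc] at h3
    have h4 := (List.all_eq_true.1 h2) s h3
    rw [Bool.or_eq_true, Bool.or_eq_true] at h4
    rcases h4 with (h4 | h4) | h4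
    · rw [bne_iff_ne] at h4
      exact absurd (Nat.mod_eq_zero_of_dvd hps) h4
    · exfalso
      apply hH
      apply Subgroup.eq_top_of_card_eq
      apply Nat.dvd_antisymm (card_subgroup_dvd_card H)
      rw [hn, ← Nat.eq_of_beq_eq_true h4]
      exact hsH
    · exact key _ h4

/-- `y` of order 3: `C(y)` is good for `r` -/
theorem nice_three {r : ℕ} (hr : r.Prime) (hr3 : ¬ r ∣ 3) (hr0 : ¬ r ∣ 2 ^ 25 * 4157776806543360000)
    (hr1 : ¬ r ∣ 90745943887872000) (hr2 : ¬ r ∣ 1255205709190661721292800) (hrn : ¬ r ^ 2 ∣ n_m) {x y : MG}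
    (hx : orderOf x = r) (hy : orderOf y = 3) (hxy : x * y = y * x) :
    Nice r ↥(centralizer ({y} : Set MG)) := by
  have := Cfsg.Agent.H444.FprM.finite
  refine Nice.of_solIdx hr ?_ (fun h => hrn (card_MG ▸ h.trans (card_subgroup_dvd_card _)))
    (H291.SCMon.three hr hr3 hr0 hr1 hr2 hy)
  have h3 : x ∈ centralizer ({y} : Set MG) := mem_centralizer_singleton_iff.2 hxy
  rw [← hx, ← Subgroup.orderOf_mk x h3]
  exact orderOf_dvd_natCard _

/-- the powers of `q` -/
theorem pow_cond {q p m : ℕ} (hm : ¬ q ^ (m + 1) ∣ n_m)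
    (h : ((List.range (m + 1)).all fun i => Nat.beq i 0 || (q ^ i - 1) % p != 0) = true) :
    ∀ i, 1 ≤ i → q ^ i ∣ Nat.card MG → ¬ p ∣ q ^ i - 1 := by
  intro i hi hd hp
  have h1 : i < m + 1 := by
    by_contra hlt
    rw [not_lt] at hlt
    exact hm ((pow_dvd_pow q hlt).trans (card_MG ▸ hd))
  have h2 := (List.all_eq_true.1 h) i (List.mem_range.2 h1)
  rw [Bool.or_eq_true, bne_iff_ne] at h2
  rcases h2 with h2 | h2
  · have := Nat.eq_of_beq_eq_true h2
    omega
  · exact h2 (Nat.mod_eq_zero_of_dvd hp)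

theorem three_not_dvd_71 {x : MG} (hx : orderOf x = 71) : ¬ 3 ∣ Nat.card (centralizer ({x} : Set MG)) := by
  have := Cfsg.Agent.H444.FprM.finite
  obtain ⟨u, y, hu, hy, huy, hyc⟩ := H149.Sp.exists_m
  refine kill (by norm_num) (by rw [card_M]; norm_num) hx Nat.prime_three (by norm_num) (by norm_num)
    (pow_cond (m := 20) (by norm_num [n_m]) (by decide +kernel))
    (fun y hy hxy => nice_three (by norm_num) (by norm_num) (by norm_num) (by norm_num) (by norm_num)
      (by norm_num [n_m]) hx hy hxy) hy ?_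
  rw [hyc]
  norm_num

theorem norm_71 (x : MG) (hx : orderOf x = 71) :
    Nat.card (normalizer ((zpowers x : Subgroup MG) : Set MG)) ∣ 230522792274432301854816074218750 := by
  have := Cfsg.Agent.H444.FprM.finite
  refine (card_normalizer_dvd (by norm_num) hx).trans ?_
  have h1 : Nat.card (centralizer ({x} : Set MG)) ∣ 2 ^ 46 * (3 ^ 20 * 3293182746777604312211658203125) := by
    refine (card_subgroup_dvd_card _).trans ?_
    rw [card_M]
    norm_num
  have c2 : Nat.Coprime (Nat.card (centralizer ({x} : Set MG))) (2 ^ 46) :=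
    (Nat.Coprime.pow_left 46 ((Nat.Prime.coprime_iff_not_dvd Nat.prime_two).2
      (two_not_dvd (by norm_num) (by norm_num) hx))).symm
  have c3 : Nat.Coprime (Nat.card (centralizer ({x} : Set MG))) (3 ^ 20) :=
    (Nat.Coprime.pow_left 20 ((Nat.Prime.coprime_iff_not_dvd Nat.prime_three).2 (three_not_dvd_71 hx))).symm
  have h2 := c3.dvd_of_dvd_mul_left (c2.dvd_of_dvd_mul_left h1)
  exact (Nat.mul_dvd_mul_right h2 70).trans (by norm_num)

/-- **Row `M`, `p = 71`.** -/
theorem row71 (B : Base) : FprRow 72 1 71 MG := by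
  have := Cfsg.Agent.H444.FprM.finite
  exact row_of_list (p := 71) (by norm_num) card_MG v_m (by norm_num [n_m]) (by norm_num [n_m])
    (NB := 230522792274432301854816074218750) (by norm_num) norm_71
    (L := [(71, 1, 2 ^ 35 * 5 ^ 5), (178920, 1, 2 ^ 35 * 5 ^ 5)])
    (list_of_ords card_MG (ords_m B) (by decide +kernel) (by decide +kernel)) (by decide +kernel)

end Cfsg.Agent.H438.Fpr.Mon
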