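import Cfsg.Agent.H444.FprMChain
import Cfsg.Agent.H444.FprMU
import Cfsg.Agent.H849.FiModel
import Cfsg.Agent.H435.Fpr.FiTwentyFour

/-!
# Fixed point ratios in the Monster, `p = 29` (helper438)

Growth from `3.Fi24'`: the points whose stabilizers cover `Fi24'` are fixed by the elements of order 17.
-/

set_option autoImplicit false
set_option maxRecDepth 100000

namespace Cfsg.Agent.H438.Fpr.Mon

open Subgroup MulAction Cfsg Cfsg.Agent.H409 Cfsg.Agent.H940.Eng Cfsg.Agent.H715.Fpr Cfsg.Agent.H444.FprM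
open Cfsg.Agent.H940.Eng.D Cfsg.Agent.OrdDiv
open Cfsg.Agent.H398.FPR (UGood)

theorem chk24 : ((List.range 1428).all fun d => Nat.ble d 1 || n_fi24p % d != 0 || false ||
    bad l_fi24p n_fi24p [] 0 Cfsg.Agent.H435.Fpr.FiTwentyFour.loc o_fi24p (n_fi24p / d)) = true := by decide +kernel

/-- the small indices of `Fi24'` -/
theorem idx24 (B : Base) {H : Subgroup ↥(_root_.commutator Cfsg.Spor.Fi24)} (hH : H ≠ ⊤) : 1428 ≤ H.index := by
  rcases H444.FprMU.idx_of (Cfsg.Agent.H435.Fpr.FiTwentyFour.ctx B) (K := 1428) (bd := 0) (P := fun _ => false)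
    chk24 hH with h | h
  · exact absurd h (by decide)
  · exact h

/-- elements of order 29 of `Fi24'` -/
theorem good24 (B : Base) {x : ↥(_root_.commutator Cfsg.Spor.Fi24)} (hx : orderOf x = 29) : UGood 1 51 x := by
  have := Cfsg.Agent.H435.Fpr.FiTwentyFour.fin
  intro H hH
  have h1 : 29 * Nat.card (fixedBy (↥(_root_.commutator Cfsg.Spor.Fi24) ⧸ H) x) ≤ 812 :=
    fix_prime_all (p := 29) (by norm_num) (by rw [Cfsg.Agent.H435.Fpr.FiTwentyFour.card]; decide +kernel)
    (N := 812) (fun R hR => Nat.le_of_dvd (by norm_num) (Cfsg.Agent.H435.Fpr.FiTwentyFour.data29 hR).2) H hx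
  have h2 := idx24 B hH
  rw [index_eq_card] at h2
  omega

theorem mem_of_map_top3 {K L : Type*} [Group K] [Group L] (f : K →* L) {t : K} (ht : t ^ 3 = 1)
    (htc : ∀ k : K, k * t = t * k) (hk : ∀ c, f c = 1 → c ∈ zpowers t) {S : Subgroup K} (hS : S.map f = ⊤) {u : K}
    (hu : Nat.Coprime (orderOf u) 3) : u ∈ S := by
  have h1 : f u ∈ S.map f := by rw [hS]; trivial
  obtain ⟨s, hs, hs2⟩ := h1
  have h2 : f (s⁻¹ * u) = 1 := by rw [map_mul, map_inv, hs2, inv_mul_cancel]
  obtain ⟨i, hi⟩ := hk _ h2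
  have hi' : t ^ i = s⁻¹ * u := hi
  have h4 : u = s * t ^ i := by rw [hi', mul_inv_cancel_left]
  have h5 : Commute s (t ^ i) := (show Commute s t from htc s).zpow_right i
  have h6 : u ^ 3 = s ^ 3 := by
    rw [h4, h5.mul_pow, ← zpow_natCast (t ^ i) 3, ← zpow_mul, mul_comm i, zpow_mul, zpow_natCast, ht, one_zpow, mul_one]
  have h7 : u ^ 3 ∈ S := h6 ▸ pow_mem hs 3
  have h8 : u ∈ zpowers (u ^ 3) := by
    obtain ⟨m, hm⟩ := exists_pow_eq_self_of_coprime (Nat.Coprime.symm hu)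
    exact ⟨(m : ℤ), by show (u ^ 3) ^ (m : ℤ) = u; rw [zpow_natCast, hm]⟩
  exact (zpowers_le.2 h7) h8

/-- **Row `M`, `p = 29`.** -/
theorem row29 (B : Base) (h3 : Cfsg.Agent.H241.NH.Three.{0}) : FprRow 30 1 29 MG := by
  have := Cfsg.Agent.H444.FprM.finite
  obtain ⟨y, t, π, D⟩ := H849.FiModel.exists_data
  refine FprRow.of_coatom fun H hH => ?_
  let K : Subgroup MG := centralizer ({y} : Set MG)
  have hfc : Nat.card (_root_.commutator Cfsg.Spor.Fi24) = n_fi24p := Cfsg.Agent.H435.Fpr.FiTwentyFour.card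
  have hd : ∀ q : ℕ, q ∣ n_fi24p → q ∣ Nat.card K := fun q hq => by
    refine (hfc ▸ hq).trans ?_
    rw [← Nat.card_congr (QuotientGroup.quotientKerEquivOfSurjective π D.surj).toEquiv]
    exact card_quotient_dvd_card _
  have h29 : Fact (Nat.Prime 29) := ⟨by norm_num⟩
  have h17 : Fact (Nat.Prime 17) := ⟨by norm_num⟩
  obtain ⟨x, hx⟩ := exists_prime_orderOf_dvd_card' (G := K) 29 (hd 29 (by decide +kernel))
  obtain ⟨u, hu⟩ := exists_prime_orderOf_dvd_card' (G := K) 17 (hd 17 (by decide +kernel))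
  have hxo : orderOf (x : MG) = 29 := by rw [Subgroup.orderOf_coe, hx]
  have huo : orderOf (u : MG) = 17 := by rw [Subgroup.orderOf_coe, hu]
  -- the image of `x`
  have hπx : orderOf (π x) = 29 := by
    have h1 : orderOf (π x) ∣ 29 := hx ▸ orderOf_map_dvd π x
    rcases (Nat.dvd_prime (by norm_num)).1 h1 with h2 | h2
    · exfalso
      have h3 := (D.ker x).1 (orderOf_eq_one_iff.1 h2)
      have h4 : orderOf (x : MG) ∣ 3 := by
        rw [← D.ord, ← Nat.card_zpowers y]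
        exact Subgroup.orderOf_dvd_natCard _ h3
      rw [hxo] at h4
      norm_num at h4
    · exact h2
  have h5 : 51 * Nat.card (fixedBy (MG ⧸ H) x) ≤ 1 * Nat.card (MG ⧸ H) +
      51 * {ω : MG ⧸ H | (stabilizer K ω).map π = ⊤}.ncard := H444.FprMChain.bound_quot π D.surj (a := 1) (b := 51) (x := x) (good24 B hπx) (X := MG ⧸ H)
  -- the points with large stabilizers are fixed by `u`
  have h6 : {ω : MG ⧸ H | (stabilizer K ω).map π = ⊤}.ncard ≤ 2688 := by
    refine le_trans ?_ (H444.FprMBig.fix_seventeen h3 H huo)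
    rw [Nat.card_coe_set_eq]
    refine Set.ncard_le_ncard ?_ (Set.toFinite _)
    intro ω hω
    have h7 : u ∈ stabilizer K ω := by
      refine mem_of_map_top3 π (t := (⟨y, mem_centralizer_singleton_iff.2 rfl⟩ : K)) ?_ ?_ ?_ hω
        (by rw [hu]; norm_num)
      · apply Subtype.ext
        show y ^ 3 = 1
        rw [← D.ord, pow_orderOf_eq_one]
      · intro k
        exact Subtype.ext (mem_centralizer_singleton_iff.1 k.2)
      · intro c hc
        obtain ⟨i, hi⟩ := (D.ker c).1 hc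
        exact ⟨i, Subtype.ext (by show ((⟨y, mem_centralizer_singleton_iff.2 rfl⟩ : K) ^ i : K).1 = c; rw [Subgroup.coe_zpow]; exact hi)⟩
    exact h7
  have h8 : Nat.card (fixedBy (MG ⧸ H) (x : MG)) = Nat.card (fixedBy (MG ⧸ H) x) := rfl
  refine ⟨(x : MG), ⟨1, by rw [hxo, pow_one]⟩, ?_⟩
  have h9 := Cfsg.Agent.H444.FprMIdx.idx hH.1
  rw [h8]
  omega

end Cfsg.Agent.H438.Fpr.Mon
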