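import Cfsg.Agent.H438.Fpr.MonE
import Cfsg.Agent.H438.Fpr.MonF

/-!
# Fixed point ratios in the Monster, `p = 29, 41, 59, 71` (helper438)
-/

set_option autoImplicit false

namespace Cfsg.Agent.H438.Fpr.Mon

open Cfsg Cfsg.Agent.H409 Cfsg.Agent.H940.Eng

universe u

theorem rowIso (B : Base) (h3 : Cfsg.Agent.H241.NH.Three.{0}) {S : Type u} [Group S] (h : Spor.IsoM S) {p : ℕ}
    (hp : p = 29 ∨ p = 41 ∨ p = 59 ∨ p = 71) : FprRow (p + 1) 1 p S := by
  rcases hp with rfl | rfl | rfl | rfl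
  · exact H444.FprMBig.transfer (by norm_num) (row29 B h3) h
  · exact H444.FprMBig.transfer (by norm_num) (row41 B) h
  · exact H444.FprMBig.transfer (by norm_num) (row59 B) h
  · exact H444.FprMBig.transfer (by norm_num) (row71 B) h

end Cfsg.Agent.H438.Fpr.Mon
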