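import Cfsg.Agent.CpAutTits.Row
import Cfsg.Agent.H845.CopTits
import Cfsg.Agent.H715.Fpr.Row4
import Cfsg.Agent.H715.Fpr.RowTools
import Cfsg.Agent.H940.EngData

/-!
# Fixed points of elements of order 5 in the Tits group (helper438)

The Sylow 5-subgroups `P` (order 25) are TI, `|N(P)|` divides 1200: `fix(x)` divides 48 and is congruent to the index mod 25.
-/

set_option autoImplicit false

namespace Cfsg.Agent.H438.Fpr.Tits

open Subgroup MulAction Cfsg.Agent.H409 Cfsg.Agent.OrdDiv Cfsg.Agent.H940 Cfsg.Agent.H940.Eng Cfsg.Agent.H940.Eng.D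
  Cfsg.Agent.H715.Fpr

universe u

section gen

variable {S : Type u} [Group S] [Finite S]

omit [Finite S] in
/-- an abelian group semiregular outside the fixed points of `x` -/
theorem card_free {Ω : Type*} [Finite Ω] [MulAction S Ω] {A : Subgroup S} {x : S}
    (hAx : ∀ a ∈ A, a * x = x * a) (hfix : ∀ a ∈ A, a ≠ 1 → ∀ ω : Ω, a • ω = ω → x • ω = ω) :
    ∃ k, Nat.card Ω = Nat.card (fixedBy Ω x) + Nat.card A * k := by
  classical
  let T : Type _ := {ω : Ω // x • ω ≠ ω}
  let _ : MulAction A T := {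
    smul := fun a ω => ⟨(a : S) • (ω : Ω), fun h => ω.2 (by
      have h1 : x • (a : S) • (ω : Ω) = (a : S) • x • (ω : Ω) := by rw [smul_smul, smul_smul, hAx a a.2]
      rw [h1] at h
      exact smul_left_cancel _ h)⟩
    one_smul := fun ω => Subtype.ext (one_smul S (ω : Ω))
    mul_smul := fun a b ω => Subtype.ext (mul_smul (a : S) (b : S) (ω : Ω)) }
  have hsm : ∀ (a : A) (ω : T), ((a • ω : T) : Ω) = (a : S) • (ω : Ω) := fun _ _ => rfl
  have hfree : ∀ ω : T, stabilizer A ω = ⊥ := by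
    intro ω
    rw [eq_bot_iff]
    intro a ha
    rw [mem_bot]
    by_contra h1
    refine ω.2 (hfix a a.2 (fun h => h1 (Subtype.ext h)) ω ?_)
    exact congrArg Subtype.val (mem_stabilizer_iff.1 ha)
  have h1 := Nat.card_congr (selfEquivOrbitsQuotientProd hfree)
  rw [Nat.card_prod] at h1
  refine ⟨Nat.card (Quotient (orbitRel A T)), ?_⟩
  have h2 : Nat.card Ω = Nat.card (fixedBy Ω x) + Nat.card T := by
    rw [← Nat.card_sum]
    refine Nat.card_congr ?_
    exact (Equiv.sumCompl (fun ω : Ω => x • ω = ω)).symm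
  rw [h2, h1, mul_comm (Nat.card A)]

/-- the hypotheses: `|C(y)| = 50` for `y` of order 5 -/
def H5 (S : Type u) [Group S] : Prop := ∀ y : S, orderOf y = 5 → Nat.card (centralizer ({y} : Set S)) = 50

omit [Finite S] in
theorem comm_of_card {P : Subgroup S} (hP : Nat.card P = 25) {a b : S} (ha : a ∈ P) (hb : b ∈ P) : a * b = b * a := by
  have := Fact.mk Nat.prime_five
  have h := IsPGroup.isMulCommutative_of_card_eq_prime_sq (p := 5) (G := P) (by rw [hP]; norm_num)
  exact congrArg Subtype.val (h.is_comm.comm ⟨a, ha⟩ ⟨b, hb⟩)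

omit [Finite S] in
theorem pow_of_card {P : Subgroup S} (hP : Nat.card P = 25) {a : S} (ha : a ∈ P) : a ^ 25 = 1 := by
  have h : (⟨a, ha⟩ : P) ^ Nat.card P = 1 := pow_card_eq_one'
  rw [hP] at h
  exact congrArg Subtype.val h

omit [Finite S] in
theorem mem_iff (hc : H5 S) {P : Subgroup S} (hP : Nat.card P = 25) {y : S} (hy : orderOf y = 5) (hyP : y ∈ P) (a : S) :
    a ∈ P ↔ a * y = y * a ∧ a ^ 25 = 1 := by
  constructor
  · intro ha
    exact ⟨comm_of_card hP ha hyP, pow_of_card hP ha⟩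
  · rintro ⟨h1, h2⟩
    set C := centralizer ({y} : Set S) with hC
    have hPC : P ≤ C := fun b hb => mem_centralizer_singleton_iff.2 (comm_of_card hP hyP hb).symm
    have h3 : (P.subgroupOf C).index = 2 := by
      have h4 := (P.subgroupOf C).card_mul_index
      rw [Nat.card_congr (subgroupOfEquivOfLe hPC).toEquiv, hP, hc y hy] at h4
      omega
    have hN : (P.subgroupOf C).Normal := normal_of_index_eq_two h3
    have haC : a ∈ C := mem_centralizer_singleton_iff.2 h1
    have h5 := pow_index_mem (P.subgroupOf C) (⟨a, haC⟩ : C)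
    rw [h3] at h5
    have h6 : a ^ 2 ∈ P := mem_subgroupOf.1 h5
    have h7 : a = (a ^ 2) ^ 13 := by
      rw [← pow_mul, show 2 * 13 = 25 + 1 from rfl, pow_succ, h2, one_mul]
    rw [h7]
    exact pow_mem h6 13

omit [Finite S] in
theorem ti (hc : H5 S) {P Q : Subgroup S} (hP : Nat.card P = 25) (hQ : Nat.card Q = 25) {y : S} (hy : orderOf y = 5)
    (hyP : y ∈ P) (hyQ : y ∈ Q) : P = Q := by
  ext a
  rw [mem_iff hc hP hy hyP, mem_iff hc hQ hy hyQ]

theorem exists_order5 {P : Subgroup S} (hP : Nat.card P = 25) {a : S} (ha : a ∈ P) (h1 : a ≠ 1) :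
    ∃ k : ℕ, orderOf (a ^ k) = 5 := by
  have h2 : orderOf a ∣ 5 ^ 2 := by
    rw [orderOf_dvd_iff_pow_eq_one]
    exact pow_of_card hP ha
  obtain ⟨j, hj, h3⟩ := (Nat.dvd_prime_pow Nat.prime_five).1 h2
  have hj0 : j ≠ 0 := by
    rintro rfl
    exact h1 (orderOf_eq_one_iff.1 h3)
  have hj' : j = 1 ∨ j = 2 := by omega
  rcases hj' with rfl | rfl
  · exact ⟨1, by rw [pow_one, h3]; norm_num⟩
  · exact ⟨5, by rw [orderOf_pow, h3]; norm_num⟩

/-- the normalizer of a Sylow 5-subgroup -/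
theorem card_norm (hc : H5 S) {P : Subgroup S} (hP : Nat.card P = 25) {x : S} (hx : orderOf x = 5) (hxP : x ∈ P) :
    50 ∣ Nat.card (normalizer (P : Set S)) ∧ Nat.card (normalizer (P : Set S)) ≤ 1200 := by
  constructor
  · rw [← hc x hx]
    apply card_dvd_of_le
    intro z hz
    have hz' : z * x = x * z := mem_centralizer_singleton_iff.1 hz
    rw [mem_normalizer_iff]
    intro a
    rw [mem_iff hc hP hx hxP, mem_iff hc hP hx hxP, conj_pow]
    have e1 : z * a * z⁻¹ * x = z * (a * x) * z⁻¹ := by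
      calc z * a * z⁻¹ * x = z * a * z⁻¹ * (x * z) * z⁻¹ := by group
        _ = z * a * z⁻¹ * (z * x) * z⁻¹ := by rw [hz']
        _ = z * (a * x) * z⁻¹ := by group
    have e2 : x * (z * a * z⁻¹) = z * (x * a) * z⁻¹ := by
      calc x * (z * a * z⁻¹) = (x * z) * a * z⁻¹ := by group
        _ = (z * x) * a * z⁻¹ := by rw [hz']
        _ = z * (x * a) * z⁻¹ := by group
    rw [e1, e2]
    constructor
    · rintro ⟨h1, h2⟩
      exact ⟨by rw [h1], by rw [h2]; group⟩
    · rintro ⟨h1, h2⟩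
      refine ⟨mul_left_cancel (mul_right_cancel h1), ?_⟩
      calc a ^ 25 = z⁻¹ * (z * a ^ 25 * z⁻¹) * z := by group
        _ = 1 := by rw [h2]; group
  · set N := normalizer (P : Set S) with hN
    let _ : MulAction N P := {
      smul := fun n z => ⟨(n : S) * z * (n : S)⁻¹, (mem_normalizer_iff.1 n.2 z).1 z.2⟩
      one_smul := fun z => Subtype.ext (by show (1 : S) * z * (1 : S)⁻¹ = z; simp)
      mul_smul := fun a b z => Subtype.ext (by
        show ((a : S) * b) * z * ((a : S) * b)⁻¹ = a * (b * z * (b : S)⁻¹) * (a : S)⁻¹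
        group) }
    have hsm : ∀ (n : N) (z : P), ((n • z : P) : S) = (n : S) * z * (n : S)⁻¹ := fun _ _ => rfl
    have h1 := card_mul_index (stabilizer N (⟨x, hxP⟩ : P))
    have h2 : (stabilizer N (⟨x, hxP⟩ : P)).index = Nat.card (orbit N (⟨x, hxP⟩ : P)) :=
      (Nat.card_congr (orbitEquivQuotientStabilizer N (⟨x, hxP⟩ : P))).symm
    have h3 : Nat.card (orbit N (⟨x, hxP⟩ : P)) ≤ 24 := by
      have h4 : orbit N (⟨x, hxP⟩ : P) ⊆ ({1} : Set P)ᶜ := by
        rintro _ ⟨n, rfl⟩ h5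
        have h6 := congrArg Subtype.val (Set.mem_singleton_iff.1 h5)
        rw [hsm] at h6
        have h7 : (n : S) * x * (n : S)⁻¹ = 1 := h6
        rw [conj_eq_one_iff] at h7
        rw [h7, orderOf_one] at hx
        norm_num at hx
      have h5 : Nat.card (({1} : Set P)ᶜ : Set P) = 24 := by
        rw [Nat.card_coe_set_eq]
        have h6 := Set.ncard_add_ncard_compl ({1} : Set P)
        rw [Set.ncard_singleton, hP] at h6
        omega
      rw [← h5]
      exact Nat.card_mono (Set.toFinite _) h4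
    have h4 : Nat.card (stabilizer N (⟨x, hxP⟩ : P)) ≤ 50 := by
      rw [← hc x hx, ← card_map_of_injective N.subtype_injective]
      apply Nat.le_of_dvd Nat.card_pos
      apply card_dvd_of_le
      rintro _ ⟨n, hn, rfl⟩
      have h5 := congrArg Subtype.val (mem_stabilizer_iff.1 hn)
      rw [hsm] at h5
      have h6 : (n : S) * x * (n : S)⁻¹ = x := h5
      exact mem_centralizer_singleton_iff.2 (by
        show (n : S) * x = x * n
        calc (n : S) * x = (n : S) * x * (n : S)⁻¹ * n := by group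
          _ = x * n := by rw [h6])
    rw [h2] at h1
    rw [← h1]
    exact (Nat.mul_le_mul h4 h3).trans (by norm_num)

/-- a fixed point of an element of order 5 of `P` lies in the orbit of `N(P)` -/
theorem fix_key (hc : H5 S) {P H : Subgroup S} (hP : Nat.card P = 25) (h125 : ¬ 5 ^ 3 ∣ Nat.card S) (hPH : P ≤ H)
    {y g : S} (hy : orderOf y = 5) (hyP : y ∈ P) (hyg : y • (g : S ⧸ H) = (g : S ⧸ H)) :
    (∀ a ∈ P, a • (g : S ⧸ H) = (g : S ⧸ H)) ∧ ∃ m ∈ normalizer (P : Set S), (g : S ⧸ H) = (m : S ⧸ H) := by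
  have := Fact.mk Nat.prime_five
  have h1 : ((y * g : S) : S ⧸ H) = (g : S) := hyg
  have h2 := QuotientGroup.eq.1 h1.symm
  rw [← mul_assoc] at h2
  have hord : orderOf (g⁻¹ * y * g) = 5 := by
    have h5 : g⁻¹ * y * g = MulAut.conj g⁻¹ y := by simp
    rw [h5, MulEquiv.orderOf_eq, hy]
  -- the Sylow subgroups of `H`
  have h125H : ¬ 5 ^ 3 ∣ Nat.card H := fun h => h125 (h.trans (card_subgroup_dvd_card H))
  have h25H : 5 ^ 2 ∣ Nat.card H := by
    have := card_dvd_of_le hPH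
    rwa [hP] at this
  have hfac : (Nat.card H).factorization 5 = 2 := by
    apply le_antisymm
    · by_contra h
      rw [not_le] at h
      exact h125H ((Nat.prime_five.pow_dvd_iff_le_factorization Nat.card_pos.ne').2 h)
    · exact (Nat.prime_five.pow_dvd_iff_le_factorization Nat.card_pos.ne').1 h25H
  let SP : Sylow 5 H := Sylow.ofCard (P.subgroupOf H) (by
    rw [Nat.card_congr (subgroupOfEquivOfLe hPH).toEquiv, hP, hfac]; norm_num)
  have hSP : (SP : Subgroup H) = P.subgroupOf H := rfl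
  obtain ⟨SQ, hSQ⟩ := (IsPGroup.of_card (G := zpowers (⟨g⁻¹ * y * g, h2⟩ : H)) (p := 5) (n := 1)
    (by rw [Nat.card_zpowers, Subgroup.orderOf_mk, hord]; norm_num)).exists_le_sylow
  have hyQ : (⟨g⁻¹ * y * g, h2⟩ : H) ∈ (SQ : Subgroup H) := hSQ (mem_zpowers _)
  obtain ⟨h, hh⟩ := MulAction.exists_smul_eq H SQ SP
  -- `h (g⁻¹ y g) h⁻¹ ∈ P`
  have h3 : (h : S) * (g⁻¹ * y * g) * (h : S)⁻¹ ∈ P := by
    have h4 : h * ⟨g⁻¹ * y * g, h2⟩ * h⁻¹ ∈ (SP : Subgroup H) := by
      rw [← hh, Sylow.smul_def, Sylow.pointwise_smul_def]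
      exact Subgroup.smul_mem_pointwise_smul _ (MulAut.conj h) _ hyQ
    rw [hSP] at h4
    exact mem_subgroupOf.1 h4
  set m : S := g * (h : S)⁻¹ with hm
  have h4 : m⁻¹ * y * m ∈ P := by
    have h5 : m⁻¹ * y * m = (h : S) * (g⁻¹ * y * g) * (h : S)⁻¹ := by rw [hm]; group
    rw [h5]; exact h3
  have h5 : P = P.map (MulAut.conj m).toMonoidHom := by
    refine ti hc hP ?_ hy hyP ⟨m⁻¹ * y * m, h4, ?_⟩
    · rw [card_map_of_injective (MulAut.conj m).injective, hP]
    · show m * (m⁻¹ * y * m) * m⁻¹ = y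
      group
  have h6 : m ∈ normalizer (P : Set S) := by
    rw [← conj_eq_iff]
    exact h5.symm
  have h7 : (g : S ⧸ H) = (m : S ⧸ H) := by
    apply QuotientGroup.eq.2
    have h8 : g⁻¹ * m = (h : S)⁻¹ := by rw [hm]; group
    rw [h8]
    exact inv_mem h.2
  refine ⟨fun a ha => ?_, m, h6, h7⟩
  rw [h7]
  change ((a * m : S) : S ⧸ H) = (m : S)
  apply QuotientGroup.eq.2
  have h8 : (a * m)⁻¹ * m = m⁻¹ * a⁻¹ * m⁻¹⁻¹ := by group
  rw [h8]
  apply hPH
  exact (mem_normalizer_iff.1 (inv_mem h6) _).1 (inv_mem ha)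

/-- **the count** -/
theorem count (hc : H5 S) [IsSimpleGroup S] {H : Subgroup S} (hH : H ≠ ⊤) (h125 : ¬ 5 ^ 3 ∣ Nat.card S)
    (h25 : 5 ^ 2 ∣ Nat.card H) : ∃ x : S, orderOf x = 5 ∧ ∃ c r m : ℕ, m ∣ Nat.card S ∧ 50 ∣ m ∧ m ≤ 1200 ∧
      Nat.card (fixedBy (S ⧸ H) x) * (25 * c) = m ∧ H.index = Nat.card (fixedBy (S ⧸ H) x) + 25 * r ∧ r ≠ 0 := by
  have := Fact.mk Nat.prime_five
  obtain ⟨P', hP'⟩ := Sylow.exists_subgroup_card_pow_prime 5 h25
  set P : Subgroup S := P'.map H.subtype with hPdef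
  have hP : Nat.card P = 25 := by rw [hPdef, card_map_of_injective H.subtype_injective, hP']; norm_num
  have hPH : P ≤ H := map_subtype_le _
  obtain ⟨x', hx'⟩ := exists_prime_orderOf_dvd_card' (G := P) 5 (by rw [hP]; norm_num)
  have hx : orderOf (x' : S) = 5 := by rw [Subgroup.orderOf_coe, hx']
  obtain ⟨hN1, hN2⟩ := card_norm hc hP hx x'.2
  refine ⟨x', hx, ?_⟩
  set N := normalizer (P : Set S) with hN
  -- the fixed points form an orbit of `N`
  have hfix : fixedBy (S ⧸ H) (x' : S) = orbit N ((1 : S) : S ⧸ H) := by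
    apply Set.Subset.antisymm
    · intro w hw
      obtain ⟨g, rfl⟩ := QuotientGroup.mk_surjective w
      obtain ⟨-, m, hm, e⟩ := fix_key hc hP h125 hPH hx x'.2 hw
      refine ⟨⟨m, hm⟩, ?_⟩
      rw [e]
      show ((m * 1 : S) : S ⧸ H) = (m : S)
      rw [mul_one]
    · rintro _ ⟨n, rfl⟩
      rw [mem_fixedBy]
      show (((x' : S) * ((n : S) * 1) : S) : S ⧸ H) = (((n : S) * 1 : S) : S ⧸ H)
      apply QuotientGroup.eq.2
      have h8 : ((x' : S) * ((n : S) * 1))⁻¹ * ((n : S) * 1) = (n : S)⁻¹ * (x' : S)⁻¹ * (n : S)⁻¹⁻¹ := by group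
      rw [h8]
      exact hPH ((mem_normalizer_iff.1 (inv_mem n.2) _).1 (inv_mem x'.2))
  have h4 : Nat.card (orbit N ((1 : S) : S ⧸ H)) * Nat.card (stabilizer N ((1 : S) : S ⧸ H)) = Nat.card N := by
    rw [Nat.card_congr (orbitEquivQuotientStabilizer N ((1 : S) : S ⧸ H)), mul_comm]
    exact card_mul_index (stabilizer N ((1 : S) : S ⧸ H))
  have h5 : 25 ∣ Nat.card (stabilizer N ((1 : S) : S ⧸ H)) := by
    have hPN : P ≤ N := le_normalizer
    have h6 : P.subgroupOf N ≤ stabilizer N ((1 : S) : S ⧸ H) := by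
      intro z hz
      rw [mem_stabilizer_iff]
      change (((z : S) * 1 : S) : S ⧸ H) = ((1 : S) : S ⧸ H)
      apply QuotientGroup.eq.2
      have h7 : ((z : S) * 1)⁻¹ * 1 = (z : S)⁻¹ := by group
      rw [h7]
      exact inv_mem (hPH hz)
    rw [← hP, ← Nat.card_congr (subgroupOfEquivOfLe hPN).toEquiv]
    exact card_dvd_of_le h6
  obtain ⟨c, hc'⟩ := h5
  obtain ⟨r, hr⟩ := card_free (S := S) (Ω := S ⧸ H) (A := P) (x := x') (fun a ha => comm_of_card hP ha x'.2)
    (fun a ha ha1 w hw => by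
      obtain ⟨g, rfl⟩ := QuotientGroup.mk_surjective w
      obtain ⟨k, hk⟩ := exists_order5 hP ha ha1
      have h6 : a ^ k ∈ stabilizer S ((g : S) : S ⧸ H) := pow_mem (mem_stabilizer_iff.2 hw) k
      exact (fix_key hc hP h125 hPH hk (pow_mem ha k) (mem_stabilizer_iff.1 h6)).1 _ x'.2)
  rw [hP] at hr
  refine ⟨c, r, Nat.card N, card_subgroup_dvd_card N, hN1, hN2, ?_, hr, ?_⟩
  · rw [← hc', hfix, h4]
  · rintro rfl
    rw [mul_zero, add_zero] at hr
    -- `x` acts trivially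
    have h6 : ∀ w : S ⧸ H, (x' : S) • w = w := by
      intro w
      have h7 : fixedBy (S ⧸ H) (x' : S) = Set.univ := by
        apply Set.eq_of_subset_of_ncard_le (Set.subset_univ _) _ (Set.toFinite _)
        rw [Set.ncard_univ, ← Nat.card_coe_set_eq, ← hr]
      have h8 : w ∈ fixedBy (S ⧸ H) (x' : S) := by rw [h7]; exact Set.mem_univ _
      exact h8
    have h7 : (x' : S) ∈ H.normalCore := by
      rw [normalCore_eq_ker, MonoidHom.mem_ker]
      ext w
      exact h6 w
    have h8 : H.normalCore = ⊥ := by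
      rcases (normalCore_normal H).eq_bot_or_eq_top with h | h
      · exact h
      · exact absurd (top_le_iff.1 (h ▸ normalCore_le H)) hH
    rw [h8, mem_bot] at h7
    rw [h7, orderOf_one] at hx
    norm_num at hx

end gen

end Cfsg.Agent.H438.Fpr.Tits
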